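import Cfsg.Agent.Lib.MaxSub.ResThree.Sub.QSimple

/-!
A simple quotient of a linear group by scalars lifts to a perfect core.
-/

set_option autoImplicit false
set_option linter.unusedSectionVars false
set_option linter.style.haveILetI false

namespace CfsgLib.ResThree

open Matrix
open scoped commutatorElement

variable {F : Type*} [Field F]

local notation "G3" => Matrix.GeneralLinearGroup (Fin 3) F
local notation "Zs" => Cfsg.Geo.scalars (Fin 3) F

theorem scalar_comm_all {z : G3} (hz : z ∈ Zs) (y : G3) : z * y = y * z := by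
  obtain ⟨c, hc⟩ := (Cfsg.Geo.mem_scalars_iff _).1 hz
  refine Units.ext ?_
  rw [Units.val_mul, Units.val_mul, hc, Matrix.mul_smul, Matrix.smul_mul, one_mul, mul_one]

theorem commutator_scalar_mul {z w a b : G3} (hz : z ∈ Zs) (hw : w ∈ Zs) :
    ⁅a * z, b * w⁆ = ⁅a, b⁆ := by
  have hzc := scalar_comm_all hz
  have hwc := scalar_comm_all hw
  have hz' : ∀ y : G3, z⁻¹ * y = y * z⁻¹ := fun y => (Commute.inv_left (hzc y)).eq
  rw [commutatorElement_def, commutatorElement_def, _root_.mul_inv_rev, _root_.mul_inv_rev]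
  calc a * z * (b * w) * (z⁻¹ * a⁻¹) * (w⁻¹ * b⁻¹)
      = a * (z * b) * (w * (z⁻¹ * a⁻¹)) * (w⁻¹ * b⁻¹) := by group
    _ = a * (b * z) * ((z⁻¹ * a⁻¹) * w) * (w⁻¹ * b⁻¹) := by rw [hzc b, hwc]
    _ = a * b * a⁻¹ * b⁻¹ := by group

theorem commutator_eq_top_of_simple {S : Type*} [Group S] [IsSimpleGroup S] (hna : ¬ IsMulCommutative S) :
    commutator S = ⊤ := by
  refine (Subgroup.Normal.eq_bot_or_eq_top (inferInstance : (commutator S).Normal)).resolve_left fun h => hna ?_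
  refine ⟨⟨fun a b => ?_⟩⟩
  have hm : ⁅a, b⁆ ∈ commutator S := Subgroup.commutator_mem_commutator (Subgroup.mem_top a) (Subgroup.mem_top b)
  rw [h, Subgroup.mem_bot] at hm
  exact commutatorElement_eq_one_iff_mul_comm.1 hm

/-- The derived subgroup of a lift of a non-abelian simple group. -/
theorem qs_of_lift {L : Subgroup (Matrix.GeneralLinearGroup (Fin 3) F)} {S : Type*} [Group S] [IsSimpleGroup S]
    (hna : ¬ IsMulCommutative S) (ψ : L →* S) (hψ : Function.Surjective ψ)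
    (hker : ∀ x : L, ψ x = 1 ↔ (x : G3) ∈ Zs) :
    ∃ P : Subgroup G3, P = ⁅L, L⁆ ∧ P ≤ L ∧ QS P ∧ L ≤ P ⊔ Zs ∧
      Nonempty (P ⧸ Subgroup.subgroupOf Zs P ≃* S) := by
  set P := ⁅L, L⁆ with hPdef
  have hle : P ≤ L := Subgroup.commutator_le.2 fun a ha b hb => by
    rw [commutatorElement_def]
    exact L.mul_mem (L.mul_mem (L.mul_mem ha hb) (L.inv_mem ha)) (L.inv_mem hb)
  have hP : P = (commutator L).map L.subtype := (Subgroup.map_subtype_commutator L).symm
  have hsurj : Function.Surjective (ψ.comp (Subgroup.inclusion hle)) := by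
    intro s
    have hs : s ∈ (commutator L).map ψ := by
      rw [commutator_def, Subgroup.map_commutator, Subgroup.map_top_of_surjective ψ hψ, ← commutator_def,
        commutator_eq_top_of_simple hna]
      trivial
    obtain ⟨x, hx, rfl⟩ := hs
    exact ⟨⟨x.1, hP ▸ ⟨x, hx, rfl⟩⟩, rfl⟩
  have hfac : ∀ a ∈ L, ∃ p ∈ P, ∃ z ∈ Zs, a = p * z := fun a ha => by
    obtain ⟨⟨p, hp⟩, hpa⟩ := hsurj (ψ ⟨a, ha⟩)
    refine ⟨p, hp, p⁻¹ * a, (hker ((⟨p, hle hp⟩ : L)⁻¹ * ⟨a, ha⟩)).1 ?_, by group⟩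
    rw [map_mul, map_inv, inv_mul_eq_one]
    exact hpa
  let ψP : P →* S := ψ.comp (Subgroup.inclusion hle)
  have hk : ψP.ker = Subgroup.subgroupOf Zs P := by
    ext x
    rw [MonoidHom.mem_ker]
    exact hker (Subgroup.inclusion hle x)
  let e : P ⧸ Subgroup.subgroupOf Zs P ≃* S :=
    (QuotientGroup.quotientMulEquivOfEq hk.symm).trans (QuotientGroup.quotientKerEquivOfSurjective ψP hsurj)
  refine ⟨P, rfl, hle, ⟨?_, e.isSimpleGroup, fun hc => hna ⟨⟨fun a b => e.symm.injective (by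
    rw [map_mul, map_mul]; exact hc.is_comm.comm _ _)⟩⟩⟩, fun a ha => ?_, ⟨e⟩⟩
  · refine le_antisymm ((Subgroup.commutator_mono hle hle).trans le_rfl) ?_
    refine Subgroup.commutator_le.2 fun a ha b hb => ?_
    obtain ⟨p, hp, z, hz, rfl⟩ := hfac a ha
    obtain ⟨r, hr, w, hw, rfl⟩ := hfac b hb
    rw [commutator_scalar_mul hz hw]
    exact Subgroup.commutator_mem_commutator hp hr
  · obtain ⟨p, hp, z, hz, rfl⟩ := hfac a ha
    exact Subgroup.mul_mem_sup hp hz

end CfsgLib.ResThree
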