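import Cfsg.Agent.Lib.MaxSub.ResThree.Dihedral.Main
import Cfsg.Agent.Lib.SmallSimple.Order168Model
import Cfsg.Agent.Lib.InvolutionDiag

/-!
A group of order 168 in `GL₃`: a generating pair with a normal form, and no outer normalisers.
-/

set_option autoImplicit false
set_option linter.unusedSectionVars false
set_option linter.style.haveILetI false

namespace CfsgLib.ResThree

open Matrix CfsgLib.Order168Model

/-- Facts about a generating pair of the model. -/
theorem model_pair :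
    (mkT 275 * mkT 275 = 1 ∧ mkT 275 ≠ 1 ∧ mkT 93 ^ 3 = 1 ∧ mkT 93 ≠ 1) ∧
    ((mkT 275 * mkT 93) ^ 7 = 1 ∧ mkT 275 * mkT 93 ≠ 1) ∧
    (mkT 84 * mkT 93 * (mkT 84)⁻¹ = (mkT 93)⁻¹ ∧
      mkT 125 * (mkT 275 * mkT 93) * (mkT 125)⁻¹ = (mkT 275 * mkT 93) * (mkT 275 * mkT 93)) := by
  decide +kernel

theorem model_orbit : ∀ b : T, b ^ 3 = 1 → (mkT 275 * b) ^ 7 = 1 →
    ∃ c : T, c * mkT 275 * c⁻¹ = mkT 275 ∧ (c * mkT 93 * c⁻¹ = b ∨ c * (mkT 93)⁻¹ * c⁻¹ = b) := by
  decide +kernel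

variable {F : Type*} [Field F] [Fintype F] {p : ℕ} [Fact p.Prime] [CharP F p]
  {P : Subgroup (Matrix.GeneralLinearGroup (Fin 3) F)}

local notation "G3" => Matrix.GeneralLinearGroup (Fin 3) F
local notation "Zs" => Cfsg.Geo.scalars (Fin 3) F

/-- A pair generating a group of order 168. -/
structure SevenPair (P : Subgroup (Matrix.GeneralLinearGroup (Fin 3) F)) (a b : P) : Prop where
  ha : a * a = 1
  a1 : a ≠ 1
  hb : b ^ 3 = 1
  b1 : b ≠ 1
  hab : (a * b) ^ 7 = 1
  ab1 : a * b ≠ 1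
  gen : Subgroup.closure ({a, b} : Set P) = ⊤
  breal : IsConj b b⁻¹
  absq : IsConj (a * b) ((a * b) ^ 2)
  orbit : ∀ a' b' : P, a' * a' = 1 → a' ≠ 1 → b' ^ 3 = 1 → (a' * b') ^ 7 = 1 →
    ∃ c : P, c * a * c⁻¹ = a' ∧ (c * b * c⁻¹ = b' ∨ c * b⁻¹ * c⁻¹ = b')

theorem exists_sevenPair (hP : Core P) (e : P ⧸ Subgroup.subgroupOf Zs P ≃* Matrix.ProjectiveSpecialLinearGroup (Fin 3) (ZMod 2)) :
    Subgroup.subgroupOf Zs P = ⊥ ∧ Nat.card P = 168 ∧ ∃ a b : P, SevenPair P a b := by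
  haveI : Fact (Nat.Prime 2) := ⟨Nat.prime_two⟩
  haveI : IsSimpleGroup (Matrix.ProjectiveSpecialLinearGroup (Fin 3) (ZMod 2)) :=
    CfsgLib.SLPerfect.isSimpleGroup (F := ZMod 2) (n := 3) le_rfl
  have hc : Nat.card (Matrix.ProjectiveSpecialLinearGroup (Fin 3) (ZMod 2)) = 168 := by
    have h1 := CfsgLib.SLCard.gcd_mul_card_PSL (F := ZMod 2) (n := 3) (by norm_num)
    have h2 := CfsgLib.SLCard.card_units_mul_card_SL (F := ZMod 2) (n := 3) (by norm_num)
    rw [Matrix.card_GL_field, Fin.prod_univ_three, ZMod.card] at h2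
    simp [ZMod.card] at h1 h2
    rw [Nat.card_eq_fintype_card]; omega
  have hZ : Subgroup.subgroupOf Zs P = ⊥ := hP.center_eq_bot_of_small e (by rw [hc]; decide)
  obtain ⟨eT⟩ := Order168Model.exists_equiv hc
  let ψ : P ≃* T :=
    ((MulEquiv.ofBijective (piZ P) ⟨hP.piZ_injective hZ, QuotientGroup.mk'_surjective _⟩).trans e).trans eT
  obtain ⟨⟨ha, ha1, hb, hb1⟩, ⟨hab, hab1⟩, hreal, hsq⟩ := model_pair
  set a₀ := mkT 275
  set b₀ := mkT 93
  refine ⟨hZ, by rw [Nat.card_congr ψ.toEquiv, card_T], ψ.symm a₀, ψ.symm b₀, ?_⟩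
  have hne : ∀ {x : T}, x ≠ 1 → ψ.symm x ≠ 1 := fun {x} hx h => hx (by simpa using congrArg ψ h)
  have hgen : Subgroup.closure ({a₀, b₀} : Set T) = ⊤ := by
    haveI := isSimpleGroup
    set K := Subgroup.closure ({a₀, b₀} : Set T) with hK
    have d2 : 2 ∣ Nat.card K := by
      have := Subgroup.orderOf_dvd_natCard K (Subgroup.subset_closure (by simp) : a₀ ∈ K)
      rwa [orderOf_eq_prime (p := 2) (by rw [pow_two]; exact ha) ha1] at this
    have d3 : 3 ∣ Nat.card K := by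
      have := Subgroup.orderOf_dvd_natCard K (Subgroup.subset_closure (by simp) : b₀ ∈ K)
      rwa [orderOf_eq_prime (p := 3) hb hb1] at this
    have d7 : 7 ∣ Nat.card K := by
      haveI : Fact (Nat.Prime 7) := ⟨by norm_num⟩
      have hm : a₀ * b₀ ∈ K := K.mul_mem (Subgroup.subset_closure (by simp)) (Subgroup.subset_closure (by simp))
      have := Subgroup.orderOf_dvd_natCard K hm
      rwa [orderOf_eq_prime (p := 7) hab hab1] at this
    have h42 : 42 ∣ Nat.card K := by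
      have := Nat.Coprime.mul_dvd_of_dvd_of_dvd (by norm_num : Nat.Coprime 2 3) d2 d3
      exact Nat.Coprime.mul_dvd_of_dvd_of_dvd (by norm_num : Nat.Coprime 6 7) this d7
    by_contra hne'
    have hidx : K.index ≤ 4 ∧ K.index ≠ 1 := by
      have h := K.card_mul_index
      rw [card_T] at h
      obtain ⟨m, hm⟩ := h42
      rw [hm, mul_assoc] at h
      have hmi : m * K.index = 4 := by omega
      refine ⟨Nat.le_of_dvd (by norm_num) ⟨m, by rw [← hmi, mul_comm]⟩, fun h1 => hne' (Subgroup.index_eq_one.1 h1)⟩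
    have hd : Nat.card T ∣ K.index.factorial := CfsgLib.SmallOrder.card_dvd_factorial_index hne'
    rw [card_T] at hd
    have : K.index.factorial ≤ 24 := Nat.factorial_le hidx.1
    have := Nat.le_of_dvd (Nat.factorial_pos _) hd
    omega
  refine ⟨by rw [← map_mul, ha, map_one], hne ha1, by rw [← map_pow, hb, map_one], hne hb1,
    by rw [← map_mul, ← map_pow, hab, map_one], by rw [← map_mul]; exact hne hab1, ?_, ?_, ?_, fun a' b' ha' ha'1 hb' hab' => ?_⟩
  · rw [show ({ψ.symm a₀, ψ.symm b₀} : Set P) = ψ.symm.toMonoidHom '' {a₀, b₀} by simp [Set.image_pair],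
      ← MonoidHom.map_closure, hgen, Subgroup.map_top_of_surjective _ ψ.symm.surjective]
  · exact isConj_iff.2 ⟨ψ.symm (mkT 84), by rw [← map_inv, ← map_mul, ← map_mul, hreal, map_inv]⟩
  · exact isConj_iff.2 ⟨ψ.symm (mkT 125), by rw [← map_mul, ← map_inv, ← map_mul, ← map_mul, hsq, pow_two, map_mul]⟩
  · obtain ⟨c₁, hc₁⟩ := conj_two (ψ a') (by rw [pow_two, ← map_mul, ha', map_one])
      (fun h => ha'1 (by simpa using h))
    obtain ⟨c, hca, hcb⟩ := model_orbit (c₁ * ψ b' * c₁⁻¹) (by rw [conj_pow, ← map_pow, hb', map_one]; group) (by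
      rw [show mkT 275 = c₁ * ψ a' * c₁⁻¹ from hc₁.symm,
        show c₁ * ψ a' * c₁⁻¹ * (c₁ * ψ b' * c₁⁻¹) = c₁ * (ψ a' * ψ b') * c₁⁻¹ by group, conj_pow, ← map_mul,
        ← map_pow, hab', map_one]
      group)
    refine ⟨ψ.symm (c₁⁻¹ * c), ψ.injective ?_, ?_⟩
    · simp only [map_mul, map_inv, MulEquiv.apply_symm_apply]
      rw [show c₁⁻¹ * c * a₀ * (c₁⁻¹ * c)⁻¹ = c₁⁻¹ * (c * a₀ * c⁻¹) * c₁ by group, hca, ← hc₁]
      group
    · rcases hcb with h | h
      · refine Or.inl (ψ.injective ?_)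
        simp only [map_mul, map_inv, MulEquiv.apply_symm_apply]
        rw [show c₁⁻¹ * c * b₀ * (c₁⁻¹ * c)⁻¹ = c₁⁻¹ * (c * b₀ * c⁻¹) * c₁ by group, h]
        group
      · refine Or.inr (ψ.injective ?_)
        simp only [map_mul, map_inv, MulEquiv.apply_symm_apply]
        rw [show c₁⁻¹ * c * b₀⁻¹ * (c₁⁻¹ * c)⁻¹ = c₁⁻¹ * (c * b₀⁻¹ * c⁻¹) * c₁ by group, h]
        group

theorem tr_mul_comm' (x y : G3) : tr (x * y) = tr (y * x) := by
  simp only [tr, Units.val_mul]; rw [Matrix.trace_mul_comm]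

theorem SevenPair.tr_b (p : ℕ) [Fact p.Prime] [CharP F p] (hP : Core P) {a b : P} (h : SevenPair P a b) :
    tr (b : G3) = 0 ∧ tr (b : G3)⁻¹ = 0 := by
  have hab := tr_inv_of_real h.breal
  rw [hab, and_self]
  by_cases hp3 : p = 3
  · subst hp3
    rw [tr_of_pow_char 3 (k := 1) (by rw [pow_one]; exact coe_pow_eq_one h.hb)]
    exact_mod_cast CharP.cast_eq_zero F 3
  · have h3 := (order_three (hP.det_eq b.2) (coe_pow_eq_one h.hb)).1
    rw [hab] at h3
    rcases mul_eq_zero.1 (show tr (b : G3) * (tr (b : G3) - 3) = 0 by linear_combination h3) with e | e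
    · exact e
    · exact absurd (Subtype.ext (eq_one_of_tr_three (p := p) (hP.det_eq b.2) (sub_eq_zero.1 e)
        (hab.trans (sub_eq_zero.1 e)) (coe_pow_eq_one h.hb) ((Nat.coprime_primes Fact.out Nat.prime_three).2 hp3))) h.b1

theorem SevenPair.tr_ab (p : ℕ) [Fact p.Prime] [CharP F p] (hP : Core P) (hp7 : p ≠ 7) {a b : P} (h : SevenPair P a b) :
    tr ((a : G3) * (b : G3)⁻¹) = tr ((a : G3) * (b : G3))⁻¹ ∧
      tr ((a : G3) * (b : G3)) + tr ((a : G3) * (b : G3))⁻¹ = -1 ∧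
      tr ((a : G3) * (b : G3)) * tr ((a : G3) * (b : G3)) + tr ((a : G3) * (b : G3)) + 2 = 0 ∧
      tr ((a : G3) * (b : G3)⁻¹) ≠ tr ((a : G3) * (b : G3)) := by
  obtain ⟨hs, hs'⟩ := tr_sq_of_conj h.absq
  have h7 := order_seven (p := p) (g := ((a * b : P) : G3)) (hP.det_eq (a * b).2) (coe_pow_eq_one h.hab)
    (fun e => h.ab1 (Subtype.ext e)) hp7 hs hs'
  simp only [Subgroup.coe_mul] at h7
  have e : tr ((a : G3) * (b : G3)⁻¹) = tr ((a : G3) * (b : G3))⁻¹ := by
    rw [_root_.mul_inv_rev, show (a : G3)⁻¹ = a from inv_eq_of_mul_eq_one_right (congrArg Subtype.val h.ha), tr_mul_comm']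
  exact ⟨e, h7.1, h7.2.1, e ▸ h7.2.2⟩

/-- A normaliser of a group of order 168 acts as a member of it. -/
theorem no_outer_seven (p : ℕ) [Fact p.Prime] [CharP F p] (hP : Core P) (hp7 : p ≠ 7) {a b : P} (hab : SevenPair P a b) {h : G3}
    (hn : ∀ x ∈ P, h * x * h⁻¹ ∈ P) : h ∈ P ⊔ Zs := by
  let a' : P := ⟨h * a * h⁻¹, hn _ a.2⟩
  let b' : P := ⟨h * b * h⁻¹, hn _ b.2⟩
  have hca : a' * a' = 1 := Subtype.ext (by
    show h * (a : G3) * h⁻¹ * (h * a * h⁻¹) = 1
    rw [show h * (a : G3) * h⁻¹ * (h * a * h⁻¹) = h * ((a : G3) * a) * h⁻¹ by group,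
      show (a : G3) * a = 1 from congrArg Subtype.val hab.ha]
    group)
  have ha'1 : a' ≠ 1 := fun e => hab.a1 (Subtype.ext (by
    have h' : h * (a : G3) * h⁻¹ = 1 := congrArg Subtype.val e
    rwa [conj_eq_one_iff] at h'))
  have hcb : b' ^ 3 = 1 := Subtype.ext (by
    show (h * (b : G3) * h⁻¹) ^ 3 = 1
    rw [conj_pow, coe_pow_eq_one hab.hb]; group)
  have hcab : (a' * b') ^ 7 = 1 := Subtype.ext (by
    show (h * (a : G3) * h⁻¹ * (h * b * h⁻¹)) ^ 7 = 1
    rw [show h * (a : G3) * h⁻¹ * (h * b * h⁻¹) = h * (a * b) * h⁻¹ by group, conj_pow,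
      ← Subgroup.coe_mul, coe_pow_eq_one hab.hab]
    group)
  obtain ⟨c, hc1, hc2⟩ := hab.orbit a' b' hca ha'1 hcb hcab
  have e1 : (c : G3) * a * (c : G3)⁻¹ = h * a * h⁻¹ := congrArg Subtype.val hc1
  rcases hc2 with hc2 | hc2
  swap
  · exfalso
    have e2 : (c : G3) * (b : G3)⁻¹ * (c : G3)⁻¹ = h * b * h⁻¹ := congrArg Subtype.val hc2
    refine (hab.tr_ab p hP hp7).2.2.2 ?_
    have t1 : tr ((c : G3) * ((a : G3) * (b : G3)⁻¹) * (c : G3)⁻¹) = tr ((a : G3) * (b : G3)⁻¹) :=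
      (tr_conj (isConj_iff.2 ⟨_, rfl⟩)).symm
    have t2 : tr (h * ((a : G3) * (b : G3)) * h⁻¹) = tr ((a : G3) * (b : G3)) := (tr_conj (isConj_iff.2 ⟨_, rfl⟩)).symm
    rw [← t1, ← t2]
    congr 1
    rw [show (c : G3) * ((a : G3) * (b : G3)⁻¹) * (c : G3)⁻¹ = ((c : G3) * a * (c : G3)⁻¹) * ((c : G3) * (b : G3)⁻¹ * (c : G3)⁻¹) by group,
      e1, e2]
    group
  have e2 : (c : G3) * b * (c : G3)⁻¹ = h * b * h⁻¹ := congrArg Subtype.val hc2
  set g := (c : G3)⁻¹ * h with hg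
  have hga : ∀ x : P, x ∈ ({a, b} : Set P) → g * (x : G3) = x * g := by
    intro x hx
    have hx' : (c : G3) * x * (c : G3)⁻¹ = h * x * h⁻¹ := by
      rcases hx with rfl | hx
      · exact e1
      · rw [Set.mem_singleton_iff.1 hx]; exact e2
    rw [hg, mul_assoc, show h * (x : G3) = h * x * h⁻¹ * h by group, ← hx']
    group
  have hall : ∀ x : P, g * (x : G3) = x * g := by
    intro x
    have hx : x ∈ Subgroup.closure ({a, b} : Set P) := hab.gen ▸ Subgroup.mem_top x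
    induction hx using Subgroup.closure_induction with
    | mem y hy => exact hga y hy
    | one => simp
    | mul y z _ _ hy hz => rw [Subgroup.coe_mul, ← mul_assoc, hy, mul_assoc, hz, mul_assoc]
    | inv y _ hy => rw [InvMemClass.coe_inv]; exact (Commute.inv_right hy).eq
  obtain ⟨k, hk⟩ := scalar_of_commute hP.envelope_top (M := g.1)
    (fun x hx => (congrArg Units.val (hall ⟨x, hx⟩)).symm)
  have hk0 : k ≠ 0 := by
    rintro rfl
    rw [zero_smul] at hk
    exact g.ne_zero hk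
  have hgs : g ∈ Zs := (Cfsg.Geo.mem_scalars_iff _).2 ⟨Units.mk0 k hk0, hk⟩
  have : h = (c : G3) * g := by rw [hg]; group
  rw [this]
  exact Subgroup.mul_mem_sup c.2 hgs

/-- The normal form of the involution. -/
def nfA (c c' : F) : Matrix (Fin 3) (Fin 3) F := !![1, c, c'; 0, -1, 0; 0, 0, -1]

/-- The normal form of the element of order three. -/
def nfB : Matrix (Fin 3) (Fin 3) F := !![0, 0, 1; 1, 0, 0; 0, 1, 0]

/-- An irreducible pair of orders two and three is determined by two traces. -/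
theorem normal_form (h2 : (2 : F) ≠ 0) {a b : G3} (ha : a * a = 1) (ha1 : a ≠ 1) (hda : a.1.det = 1)
    (hb : b ^ 3 = 1) (tb : tr b = 0) (tb' : tr b⁻¹ = 0)
    (hirr : ∀ W : Submodule F (Fin 3 → F), (∀ v ∈ W, a.1 *ᵥ v ∈ W) → (∀ v ∈ W, b.1 *ᵥ v ∈ W) → W = ⊥ ∨ W = ⊤) :
    ∃ B : G3, a.1 * B.1 = B.1 * nfA (tr (a * b)) (tr (a * b⁻¹)) ∧ b.1 * B.1 = B.1 * nfB := by
  obtain ⟨T, s, hs, hfs⟩ := InvolutionDiag.exists_diag h2 (fun _ : Unit => a.1)
    (fun _ => by rw [← Units.val_mul, ha, Units.val_one]) (fun _ _ => rfl)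
  have hprod : s () 0 * s () 1 * s () 2 = 1 := by
    have h := congrArg Matrix.det (hfs ())
    rw [hda, Matrix.det_mul, Matrix.det_mul, Matrix.det_diagonal, Fin.prod_univ_three] at h
    have hT : T.1.det * (T⁻¹).1.det = 1 := by rw [← Matrix.det_mul, T.mul_inv, Matrix.det_one]
    linear_combination -h - (s () 0 * s () 1 * s () 2) * hT
  obtain ⟨k, hk⟩ : ∃ k : Fin 3, s () = fun i => -1 + (if i = k then 2 else 0) := by
    have hne : (-1 : F) ≠ 1 := fun h => h2 (by linear_combination -h)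
    rcases hs () 0 with e0 | e0 <;> rcases hs () 1 with e1 | e1 <;> rcases hs () 2 with e2 | e2 <;>
      rw [e0, e1, e2] at hprod
    · exfalso
      refine ha1 (Units.ext ?_)
      rw [hfs (), show s () = fun _ => (1 : F) from funext fun i => by fin_cases i <;> assumption, Matrix.diagonal_one,
        mul_one, T.mul_inv, Units.val_one]
    all_goals first
      | exact absurd (by simpa using hprod) hne
      | (refine ⟨0, funext fun i => ?_⟩; fin_cases i <;> simp [e0, e1, e2] <;> norm_num; done)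
      | (refine ⟨1, funext fun i => ?_⟩; fin_cases i <;> simp [e0, e1, e2] <;> norm_num; done)
      | (refine ⟨2, funext fun i => ?_⟩; fin_cases i <;> simp [e0, e1, e2] <;> norm_num; done)
  set u : Fin 3 → F := T.1.col k with hu
  set φ : Fin 3 → F := (2 : F) • (T⁻¹ : G3).1.row k with hφ
  have ha' : a.1 = -1 + Matrix.vecMulVec u φ := by
    have hd : Matrix.diagonal (s ()) = -1 + (2 : F) • Matrix.single k k (1 : F) := by
      rw [hk]
      ext i j
      by_cases hij : i = j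
      · subst hij; by_cases hi : i = k <;> simp [hi, Ne.symm]
      · simp only [Matrix.diagonal_apply_ne _ hij, Matrix.add_apply, Matrix.neg_apply, Matrix.one_apply_ne hij,
          Matrix.smul_apply, neg_zero, zero_add]
        rw [Matrix.single_apply, if_neg (fun h => hij (h.1.symm.trans h.2)), smul_zero]
    rw [hfs (), hd, mul_add, add_mul, mul_neg, mul_one, neg_mul, T.mul_inv, Matrix.mul_smul, Matrix.smul_mul]
    congr 1
    ext i j
    simp [hu, hφ, Matrix.mul_apply, Matrix.single_apply, Matrix.vecMulVec_apply, ite_and]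
    ring
  have hu0 : u ≠ 0 := fun h => by
    refine T.det_ne_zero ?_
    exact Matrix.det_eq_zero_of_column_eq_zero k fun i => congrFun h i
  have hφu : φ ⬝ᵥ u = 2 := by
    have h := congrFun (congrFun (T.inv_mul) k) k
    rw [Matrix.mul_apply, Matrix.one_apply_eq] at h
    simp only [hu, hφ, smul_dotProduct, smul_eq_mul]
    rw [show (T⁻¹ : G3).1.row k ⬝ᵥ T.1.col k = 1 from h, mul_one]
  have hax : ∀ v, a.1 *ᵥ v = -v + (φ ⬝ᵥ v) • u := fun v => by
    rw [ha', Matrix.add_mulVec, Matrix.neg_mulVec, Matrix.one_mulVec, Matrix.vecMulVec_mulVec]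
    ext i; simp [mul_comm]
  have hb3 : b.1 * (b.1 * b.1) = 1 := by
    rw [← Units.val_mul, ← Units.val_mul, ← pow_two, ← pow_succ', hb, Units.val_one]
  let w : Fin 3 → (Fin 3 → F) := ![u, b.1 *ᵥ u, b.1 *ᵥ (b.1 *ᵥ u)]
  have hbw : ∀ i, b.1 *ᵥ w i = w (i + 1) := fun i => by
    fin_cases i <;> simp [w, Matrix.mulVec_mulVec, hb3]
  have htop : Submodule.span F (Set.range w) = ⊤ := by
    refine (hirr _ (fun v hv => ?_) (fun v hv => ?_)).resolve_left fun h => hu0 ?_
    · rw [hax]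
      exact Submodule.add_mem _ (Submodule.neg_mem _ hv) (Submodule.smul_mem _ _ (Submodule.subset_span ⟨0, rfl⟩))
    · induction hv using Submodule.span_induction with
      | mem x hx => obtain ⟨i, rfl⟩ := hx; rw [hbw]; exact Submodule.subset_span ⟨_, rfl⟩
      | zero => simp
      | add x y _ _ hx hy => rw [Matrix.mulVec_add]; exact Submodule.add_mem _ hx hy
      | smul c x _ hx => rw [Matrix.mulVec_smul]; exact Submodule.smul_mem _ c hx
    · exact (Submodule.mem_bot F).1 (h ▸ Submodule.subset_span ⟨0, rfl⟩)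
  let W : Matrix (Fin 3) (Fin 3) F := Matrix.of fun i j => w j i
  have hW : IsUnit W := by
    rw [← Matrix.linearIndependent_cols_iff_isUnit]
    exact linearIndependent_of_top_le_span_of_card_eq_finrank htop.ge (by simp)
  have hmul : ∀ (M : Matrix (Fin 3) (Fin 3) F) i j, (M * W) i j = (M *ᵥ w j) i := fun M i j => rfl
  refine ⟨hW.unit, ?_, ?_⟩
  · rw [IsUnit.unit_spec]
    have htr : ∀ y : G3, tr (a * y) = -tr y + φ ⬝ᵥ (y.1 *ᵥ u) := fun y => by
      simp only [tr, Units.val_mul]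
      rw [ha', add_mul, Matrix.trace_add, neg_mul, one_mul, Matrix.trace_neg, Matrix.vecMulVec_mul,
        Matrix.trace_vecMulVec, dotProduct_comm u, ← dotProduct_mulVec]
    have h1 := htr b
    have h2' := htr b⁻¹
    rw [tb, neg_zero, zero_add] at h1
    rw [tb', neg_zero, zero_add, inv_eq_pow (n := 2) hb, Units.val_pow_eq_pow_val, pow_two b.1,
      ← Matrix.mulVec_mulVec] at h2'
    ext i j
    rw [hmul, hax]
    rw [inv_eq_pow (n := 2) hb] 
    fin_cases j <;>
      simp [w, W, nfA, Matrix.mul_apply, Fin.sum_univ_three, hφu, h1, h2'] <;> ring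
  · rw [IsUnit.unit_spec]
    ext i j
    rw [hmul, hbw]
    fin_cases j <;> simp [w, W, nfB, Matrix.mul_apply, Fin.sum_univ_three]

end CfsgLib.ResThree
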