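import Mathlib

/-!
Finite facts on three-elements of the alternating group of degree six.
-/

set_option autoImplicit false
set_option maxRecDepth 100000
set_option synthInstance.maxSize 2000
set_option synthInstance.maxHeartbeats 400000
set_option linter.style.haveILetI false

namespace CfsgLib.ResThree.Six

open Equiv

/-- The alternating group of degree six. -/
abbrev A6 : Type := alternatingGroup (Fin 6)

def ga : A6 := ⟨swap 0 1 * swap 1 2, Equiv.Perm.mem_alternatingGroup.2 (by simp [Equiv.Perm.sign_swap])⟩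
def gb : A6 := ⟨swap 3 4 * swap 4 5, Equiv.Perm.mem_alternatingGroup.2 (by simp [Equiv.Perm.sign_swap])⟩
def gc : A6 := ⟨swap 2 3 * swap 3 4, Equiv.Perm.mem_alternatingGroup.2 (by simp [Equiv.Perm.sign_swap])⟩
def gi : A6 := ⟨swap 0 1 * swap 3 4, Equiv.Perm.mem_alternatingGroup.2 (by simp [Equiv.Perm.sign_swap])⟩

/-- A three-cycle. -/
def Small (x : A6) : Prop := x * x * x = 1 ∧ x ≠ 1 ∧ ∃ i : Fin 6, x.1 i = i

/-- A product of two three-cycles. -/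
def Big (x : A6) : Prop := x * x * x = 1 ∧ x ≠ 1 ∧ ∀ i : Fin 6, x.1 i ≠ i

instance : DecidablePred Small := fun x => by unfold Small; infer_instance
instance : DecidablePred Big := fun x => by unfold Big; infer_instance

theorem basic : ga * ga * ga = 1 ∧ gb * gb * gb = 1 ∧ ga * gb = gb * ga ∧ gi * ga * gi⁻¹ = ga⁻¹ ∧
    gi * gb * gi⁻¹ = gb⁻¹ ∧ Small ga ∧ Small gb ∧ Small gc ∧ ga ≠ 1 ∧ gb ≠ 1 ∧ gb ≠ ga ∧ gb ≠ ga⁻¹ ∧
    (ga * gc) ^ 5 = 1 ∧ (ga * gc⁻¹) ^ 5 = 1 ∧ (gb * gc) ^ 2 = 1 ∧ (gb * gc⁻¹) ^ 3 = 1 ∧ Big (ga * gb) ∧ ga * gc ≠ 1 := by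
  decide +kernel

theorem small_or_big : ∀ x : A6, x * x * x = 1 → x ≠ 1 → Small x ∨ Big x := by decide +kernel

theorem small_conj : ∀ x : A6, Small x → ∃ g : A6, g * x * g⁻¹ = ga := by decide +kernel

theorem big_conj : ∀ x : A6, Big x → ∃ g : A6, g * x * g⁻¹ = ga * gb := by decide +kernel

theorem small_second : ∀ x : A6, Small x → ga * x = x * ga → x ≠ ga → x ≠ ga⁻¹ → x = gb ∨ x = gb⁻¹ := by
  decide +kernel

theorem big_second : ∀ x : A6, Big x → ga * gb * x = x * (ga * gb) → x ≠ ga * gb → x ≠ (ga * gb)⁻¹ →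
    x = ga * gb⁻¹ ∨ x = ga⁻¹ * gb := by
  decide +kernel

theorem small_third : ∀ x : A6, Small x → (ga * x) ^ 5 = 1 → (ga * x⁻¹) ^ 5 = 1 → (gb * x) ^ 2 = 1 →
    (gb * x⁻¹) ^ 3 = 1 → ∃ i j : Fin 3, ga ^ (i : ℕ) * gb ^ (j : ℕ) * x * (ga ^ (i : ℕ) * gb ^ (j : ℕ))⁻¹ = gc := by
  decide +kernel

theorem big_third : ∀ x : A6, Big x → (ga * gb * x) ^ 5 = 1 → (ga * gb * x⁻¹) ^ 5 = 1 →
    (ga * gb⁻¹ * x) ^ 2 = 1 → (ga * gb⁻¹ * x⁻¹) ^ 3 = 1 →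
    ∃ g : A6, g * (ga * gc) ^ 2 * g⁻¹ = ga * gb * x := by
  decide +kernel

theorem conj_gc : (∃ g : A6, g * ga * g⁻¹ = gb) ∧ (∃ g : A6, g * ga * g⁻¹ = gc) ∧
    ∃ g : A6, g * (ga * gc) * g⁻¹ = (ga * gc)⁻¹ := by
  decide +kernel

def rep5 : Fin 6 → A6 := ![1, gb, gb⁻¹, gc * gb⁻¹, ga * gc * gb⁻¹, ga⁻¹ * gc * gb⁻¹]

def rep4 : Fin 5 → A6 := ![1, gc, gc⁻¹, ga * gc, ga⁻¹ * gc]

def rep3 : Fin 4 → A6 := ![1, gc * ga * gc⁻¹, gc * ga⁻¹ * gc⁻¹, ga * gc * ga⁻¹ * gc⁻¹]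

def rep2 : Fin 3 → A6 := ![1, ga, ga⁻¹]

theorem descend : (∀ x : A6, ∃ i, ((rep5 i)⁻¹ * x).1 5 = 5) ∧ (∀ x : A6, x.1 5 = 5 → ∃ i, ((rep4 i)⁻¹ * x).1 4 = 4 ∧
    ((rep4 i)⁻¹ * x).1 5 = 5) ∧ (∀ x : A6, x.1 5 = 5 → x.1 4 = 4 → ∃ i, ((rep3 i)⁻¹ * x).1 3 = 3 ∧
    ((rep3 i)⁻¹ * x).1 4 = 4 ∧ ((rep3 i)⁻¹ * x).1 5 = 5) ∧
    (∀ x : A6, x.1 5 = 5 → x.1 4 = 4 → x.1 3 = 3 → ∃ i, x = rep2 i) := by
  decide +kernel

set_option maxHeartbeats 2000000 in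
/-- The three elements generate. -/
theorem generate {K : Subgroup A6} (ha : ga ∈ K) (hb : gb ∈ K) (hc : gc ∈ K) : K = ⊤ := by
  obtain ⟨d5, d4, d3, d2⟩ := descend
  have ha' := K.inv_mem ha
  have hb' := K.inv_mem hb
  have hc' := K.inv_mem hc
  have h5 : ∀ i, rep5 i ∈ K := fun i => by
    fin_cases i <;> simp [rep5] <;> repeat' first | assumption | apply Subgroup.one_mem | apply Subgroup.mul_mem
  have h4 : ∀ i, rep4 i ∈ K := fun i => by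
    fin_cases i <;> simp [rep4] <;> repeat' first | assumption | apply Subgroup.one_mem | apply Subgroup.mul_mem
  have h3 : ∀ i, rep3 i ∈ K := fun i => by
    fin_cases i <;> simp [rep3] <;> repeat' first | assumption | apply Subgroup.one_mem | apply Subgroup.mul_mem
  have h2 : ∀ i, rep2 i ∈ K := fun i => by
    fin_cases i <;> simp [rep2] <;> repeat' first | assumption | apply Subgroup.one_mem | apply Subgroup.mul_mem
  refine (Subgroup.eq_top_iff' K).2 fun x => ?_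
  obtain ⟨i, hi⟩ := d5 x
  obtain ⟨j, hj4, hj5⟩ := d4 _ hi
  obtain ⟨k, hk3, hk4, hk5⟩ := d3 _ hj5 hj4
  obtain ⟨l, hl⟩ := d2 _ hk5 hk4 hk3
  have : x = rep5 i * (rep4 j * (rep3 k * rep2 l)) := by rw [← hl]; group
  rw [this]
  exact K.mul_mem (h5 i) (K.mul_mem (h4 j) (K.mul_mem (h3 k) (h2 l)))

end CfsgLib.ResThree.Six
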