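import Cfsg.Agent.Lib.MaxSub.ResThree.Sub.Pairing
import Cfsg.Agent.Lib.MaxSub.ResThree.Sub.SixFacts
import Cfsg.Agent.S2119

/-!
Normalisers of a core that is alternating of degree six or seven modulo scalars.
-/

set_option autoImplicit false
set_option linter.unusedSectionVars false
set_option linter.style.haveILetI false

namespace CfsgLib.ResThree

open Matrix Six

theorem Six.small_conj_self {x : A6} (h : Small x) (g : A6) : Small (g * x * g⁻¹) := by
  obtain ⟨h3, h1, i, hi⟩ := h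
  refine ⟨?_, fun e => h1 (conj_eq_one_iff.1 e), g.1 i, ?_⟩
  · rw [show g * x * g⁻¹ * (g * x * g⁻¹) * (g * x * g⁻¹) = g * (x * x * x) * g⁻¹ by group, h3]; group
  · simp [hi]

theorem Six.small_inv {x : A6} (h : Small x) : Small x⁻¹ := by
  obtain ⟨h3, h1, i, hi⟩ := h
  refine ⟨?_, fun e => h1 (inv_eq_one.1 e), i, ?_⟩
  · rw [show x⁻¹ * x⁻¹ * x⁻¹ = (x * x * x)⁻¹ by group, h3, inv_one]
  · show x.1.symm i = i
    rw [Equiv.symm_apply_eq, hi]

theorem Six.not_small_of_big {x : A6} (h : Big x) : ¬ Small x := fun ⟨_, _, i, hi⟩ => h.2.2 i hi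

theorem Six.big_conj_self {x : A6} (h : Big x) (g : A6) : Big (g * x * g⁻¹) := by
  refine ⟨?_, fun e => h.2.1 (conj_eq_one_iff.1 e), fun i hi => ?_⟩
  · rw [show g * x * g⁻¹ * (g * x * g⁻¹) * (g * x * g⁻¹) = g * (x * x * x) * g⁻¹ by group, h.1]; group
  · refine h.2.2 (g.1.symm i) ?_
    have := congrArg g.1.symm hi
    simpa using this

theorem Six.ind : ∀ i j : Fin 3, ga ^ (i : ℕ) * gb ^ (j : ℕ) = 1 → i = 0 ∧ j = 0 := by decide +kernel

variable {F : Type*} [Field F] [Fintype F]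

local notation "G3" => Matrix.GeneralLinearGroup (Fin 3) F
local notation "Zs" => Cfsg.Geo.scalars (Fin 3) F

variable {P : Subgroup (Matrix.GeneralLinearGroup (Fin 3) F)}

/-- The automorphism of the alternating group of a normaliser. -/
noncomputable def act {A : Type*} [Group A] (e : P ⧸ (Cfsg.Geo.scalars (Fin 3) F).subgroupOf P ≃* A)
    {h : Matrix.GeneralLinearGroup (Fin 3) F} (hn : ∀ x ∈ P, h * x * h⁻¹ ∈ P) : A →* A :=
  e.toMonoidHom.comp ((indQ hn).comp e.symm.toMonoidHom)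

theorem act_injective {A : Type*} [Group A] (e : P ⧸ Subgroup.subgroupOf Zs P ≃* A) {h : G3}
    (hn : ∀ x ∈ P, h * x * h⁻¹ ∈ P) : Function.Injective (act e hn) :=
  e.injective.comp ((indQ_bijective hn).1.comp e.symm.injective)

theorem normal_mul {g h : G3} (hg : ∀ x ∈ P, g * x * g⁻¹ ∈ P) (hh : ∀ x ∈ P, h * x * h⁻¹ ∈ P) :
    ∀ x ∈ P, g * h * x * (g * h)⁻¹ ∈ P := fun x hx => by
  simpa [mul_assoc] using hg _ (hh x hx)

theorem normal_coe (y : P) : ∀ x ∈ P, (y : G3) * x * (y : G3)⁻¹ ∈ P := fun _ hx =>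
  P.mul_mem (P.mul_mem y.2 hx) (P.inv_mem y.2)

theorem act_mul {A : Type*} [Group A] (e : P ⧸ Subgroup.subgroupOf Zs P ≃* A) {g h : G3}
    (hg : ∀ x ∈ P, g * x * g⁻¹ ∈ P) (hh : ∀ x ∈ P, h * x * h⁻¹ ∈ P) (a : A) :
    act e (normal_mul hg hh) a = act e hg (act e hh a) := by
  simp only [act, MonoidHom.comp_apply, MulEquiv.coe_toMonoidHom, MulEquiv.symm_apply_apply]
  rw [indQ_mul hg hh]

/-- A normaliser may be composed with an inner automorphism. -/
theorem exists_shift {A : Type*} [Group A] (e : P ⧸ Subgroup.subgroupOf Zs P ≃* A) {h : G3}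
    (hn : ∀ x ∈ P, h * x * h⁻¹ ∈ P) (g : A) :
    ∃ (y : P) (hn' : ∀ x ∈ P, (y : G3) * h * x * ((y : G3) * h)⁻¹ ∈ P), ∀ a, act e hn' a = g * act e hn a * g⁻¹ := by
  obtain ⟨y, hy⟩ := QuotientGroup.mk'_surjective _ (e.symm g)
  refine ⟨y, normal_mul (normal_coe y) hn, fun a => ?_⟩
  rw [act_mul e (normal_coe y) hn]
  generalize act e hn a = b
  simp only [act, MonoidHom.comp_apply, MulEquiv.coe_toMonoidHom, indQ_coe, map_mul, map_inv,
    MulEquiv.apply_symm_apply, show piZ P y = e.symm g from hy]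

/-- A normaliser inducing the identity lies in the core times the scalars. -/
theorem mem_of_act_id {H : Subgroup G3} (hres : Cfsg.Geo.IsResidualCore H P) {A : Type*} [Group A]
    (e : P ⧸ Subgroup.subgroupOf Zs P ≃* A) {h : G3} (hH : h ∈ H) (y : P) (hn : ∀ x ∈ P, (y : G3) * h * x * ((y : G3) * h)⁻¹ ∈ P)
    (hid : ∀ a, act e hn a = a) : h ∈ P ⊔ Zs := by
  have hyh : (y : G3) * h ∈ Zs := hres.centralizer_scalar _ (H.mul_mem (hres.le y.2) hH) fun x hx => by
    have h1 := hid (e (piZ P ⟨x, hx⟩))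
    simp only [act, MonoidHom.comp_apply, MulEquiv.coe_toMonoidHom, MulEquiv.symm_apply_apply] at h1
    have h2 : piZ P ⟨_, hn x hx⟩ = piZ P ⟨x, hx⟩ := (indQ_piZ hn ⟨x, hx⟩).symm.trans (e.injective h1)
    obtain ⟨z, hz, ez⟩ := lift_eq h2
    rw [show (y : G3) * h * x * ((y : G3) * h)⁻¹ * x⁻¹ = x * z * x⁻¹ from congrArg (· * x⁻¹) ez, scalar_conj hz]
    exact hz
  have : h = ((y : G3))⁻¹ * ((y : G3) * h) := by group
  rw [this]
  exact Subgroup.mul_mem_sup (P.inv_mem y.2) hyh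

section Six

variable (e : P ⧸ (Cfsg.Geo.scalars (Fin 3) F).subgroupOf P ≃* A6)

theorem pair_hyps : (e.symm ga) ^ 3 = 1 ∧ (e.symm gb) ^ 3 = 1 ∧
    (∀ i j : Fin 3, (e.symm ga) ^ (i : ℕ) * (e.symm gb) ^ (j : ℕ) = 1 → i = 0 ∧ j = 0) ∧
    e.symm gi * e.symm ga * (e.symm gi)⁻¹ = (e.symm ga)⁻¹ ∧ e.symm gi * e.symm gb * (e.symm gi)⁻¹ = (e.symm gb)⁻¹ ∧
    e.symm ga * e.symm gb = e.symm gb * e.symm ga := by
  obtain ⟨ha, hb, hab, hia, hib, -⟩ := basic
  refine ⟨?_, ?_, fun i j h => Six.ind i j (e.symm.injective ?_), ?_, ?_, ?_⟩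
  · rw [← map_pow, pow_succ, pow_two, ha, map_one]
  · rw [← map_pow, pow_succ, pow_two, hb, map_one]
  · rw [map_mul, map_pow, map_pow, map_one, h]
  · rw [← map_inv, ← map_mul, ← map_mul, hia, map_inv]
  · rw [← map_inv, ← map_mul, ← map_mul, hib, map_inv]
  · rw [← map_mul, ← map_mul, hab]

theorem act_no_flip (p : ℕ) [Fact p.Prime] [CharP F p] (hP : Core P) (hp3 : p ≠ 3) {h : G3}
    (hn : ∀ x ∈ P, h * x * h⁻¹ ∈ P)
    (hflip : (act e hn ga = ga⁻¹ ∧ act e hn gb = gb) ∨ (act e hn ga = ga ∧ act e hn gb = gb⁻¹) ∨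
      (act e hn ga = ga * gb ∧ act e hn gb = ga⁻¹ * gb)) : False := by
  obtain ⟨ha, hb, hind, hia, hib, hab⟩ := pair_hyps e
  refine no_flip p hP hp3 ha hb hind hia hib hab hn ?_
  have key : ∀ a b, act e hn a = b → indQ hn (e.symm a) = e.symm b := fun a b h1 => by
    rw [← h1]
    simp [act]
  rcases hflip with ⟨h1, h2⟩ | ⟨h1, h2⟩ | ⟨h1, h2⟩
  · exact Or.inl ⟨(key _ _ h1).trans (map_inv _ _), key _ _ h2⟩
  · exact Or.inr (Or.inl ⟨key _ _ h1, (key _ _ h2).trans (map_inv _ _)⟩)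
  · exact Or.inr (Or.inr ⟨(key _ _ h1).trans (map_mul _ _ _), (key _ _ h2).trans (by rw [map_mul, map_inv])⟩)

theorem act_third {h : G3} (hn : ∀ x ∈ P, h * x * h⁻¹ ∈ P) :
    (act e hn ga * act e hn gc) ^ 5 = 1 ∧ (act e hn ga * (act e hn gc)⁻¹) ^ 5 = 1 ∧
    (act e hn gb * act e hn gc) ^ 2 = 1 ∧ (act e hn gb * (act e hn gc)⁻¹) ^ 3 = 1 := by
  obtain ⟨-, -, -, -, -, -, -, -, -, -, -, -, r1, r2, r3, r4, -⟩ := basic
  simp only [← map_inv, ← map_mul, ← map_pow]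
  exact ⟨by rw [r1, map_one], by rw [r2, map_one], by rw [r3, map_one], by rw [r4, map_one]⟩

theorem act_conj {h : G3} (hn : ∀ x ∈ P, h * x * h⁻¹ ∈ P) :
    (∃ u, act e hn gb = u * act e hn ga * u⁻¹) ∧ ∃ u, act e hn gc = u * act e hn ga * u⁻¹ := by
  obtain ⟨⟨g, hg⟩, ⟨g', hg'⟩, -⟩ := conj_gc
  exact ⟨⟨act e hn g, by rw [← map_inv, ← map_mul, ← map_mul, hg]⟩,
    ⟨act e hn g', by rw [← map_inv, ← map_mul, ← map_mul, hg']⟩⟩

/-- A normaliser preserving the class of three-cycles. -/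
theorem six_preserve (p : ℕ) [Fact p.Prime] [CharP F p] (hp3 : p ≠ 3) {H : Subgroup G3}
    (hres : Cfsg.Geo.IsResidualCore H P) {h : G3} (hH : h ∈ H) (hn : ∀ x ∈ P, h * x * h⁻¹ ∈ P)
    (hs : Small (act e hn ga)) : h ∈ P ⊔ Zs := by
  have hP := Core.of_residual hres
  obtain ⟨g, hg⟩ := small_conj _ hs
  obtain ⟨y, hn', hy⟩ := exists_shift e hn g
  have h1 : act e hn' ga = ga := (hy ga).trans hg
  obtain ⟨-, -, hab, -, -, hsa, -, -, hne, -, hba, hba', -⟩ := basic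
  obtain ⟨⟨u, hu⟩, ⟨u', hu'⟩⟩ := act_conj e hn'
  have hinj := act_injective e hn'
  have h2 : act e hn' gb = gb := by
    rcases small_second _ (hu ▸ h1.symm ▸ small_conj_self hsa u)
        (by rw [← h1, ← map_mul, hab, map_mul]) (fun h => hba (hinj (h.trans h1.symm)))
        (fun h => hba' (hinj (by rw [h, map_inv, h1]))) with h | h
    · exact h
    · exact (act_no_flip e p hP hp3 hn' (Or.inr (Or.inl ⟨h1, h⟩))).elim
  have hc := act_third e hn'
  rw [h1, h2] at hc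
  obtain ⟨i, j, hij⟩ := small_third (act e hn' gc) (hu' ▸ h1.symm ▸ small_conj_self hsa u') hc.1 hc.2.1 hc.2.2.1
    hc.2.2.2
  set w := ga ^ (i : ℕ) * gb ^ (j : ℕ) with hw
  obtain ⟨y₂, hn'', hy₂⟩ := exists_shift e hn' w
  have hcab : Commute ga gb := hab
  have hK : MonoidHom.eqLocus (act e hn'') (MonoidHom.id A6) = ⊤ := generate
    (by
      show act e hn'' ga = ga
      rw [hy₂, h1, ((Commute.refl ga).pow_left (i : ℕ)).mul_left (hcab.symm.pow_left (j : ℕ)) |>.eq]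
      exact mul_inv_cancel_right _ _)
    (by
      show act e hn'' gb = gb
      rw [hy₂, h2, (hcab.pow_left (i : ℕ)).mul_left ((Commute.refl gb).pow_left (j : ℕ)) |>.eq]
      exact mul_inv_cancel_right _ _)
    (by show act e hn'' gc = gc; rw [hy₂]; exact hij)
  have hid : ∀ a, act e hn'' a = a := fun a => (hK.symm ▸ Subgroup.mem_top a : a ∈ MonoidHom.eqLocus (act e hn'') (MonoidHom.id A6))
  have := mem_of_act_id hres e (H.mul_mem (hres.le y.2) hH) y₂ hn'' hid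
  have he : h = ((y : G3))⁻¹ * ((y : G3) * h) := by group
  rw [he]
  exact (P ⊔ Zs).mul_mem ((P ⊔ Zs).inv_mem (Subgroup.mem_sup_left y.2)) this

/-- A normaliser exchanging the classes, in normal form. -/
theorem six_swap_form (p : ℕ) [Fact p.Prime] [CharP F p] (hP : Core P) (hp3 : p ≠ 3) {h : G3}
    (hn : ∀ x ∈ P, h * x * h⁻¹ ∈ P) (hs : ¬ Small (act e hn ga)) :
    ∃ (y : P) (hn' : ∀ x ∈ P, (y : G3) * h * x * ((y : G3) * h)⁻¹ ∈ P) (g : A6),
      (∀ a, act e hn' a = g * act e hn a * g⁻¹) ∧ act e hn' ga = ga * gb ∧ act e hn' gb = ga * gb⁻¹ := by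
  obtain ⟨ha, -, hab, -, -, -, -, -, hne, -, hba, hba', -, -, -, -, hbig, -⟩ := basic
  have hb1 : Big (act e hn ga) := (small_or_big _ (by rw [← map_mul, ← map_mul, ha, map_one])
    (fun h => hne (act_injective e hn (h.trans (map_one _).symm)))).resolve_left hs
  obtain ⟨g, hg⟩ := big_conj _ hb1
  obtain ⟨y, hn', hy⟩ := exists_shift e hn g
  refine ⟨y, hn', g, hy, (hy ga).trans hg, ?_⟩
  have h1 : act e hn' ga = ga * gb := (hy ga).trans hg
  obtain ⟨⟨u, hu⟩, -⟩ := act_conj e hn'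
  have hinj := act_injective e hn'
  rcases big_second _ (hu ▸ h1.symm ▸ big_conj_self hbig u) (by rw [← h1, ← map_mul, hab, map_mul])
      (fun h => hba (hinj (h.trans h1.symm))) (fun h => hba' (hinj (by rw [h, map_inv, h1]))) with h | h
  · exact h
  · exact (act_no_flip e p hP hp3 hn' (Or.inr (Or.inr ⟨h1, h⟩))).elim

/-- Outside characteristic five no normaliser exchanges the classes. -/
theorem six_swap_false (p : ℕ) [Fact p.Prime] [CharP F p] (hP : Core P) (hp3 : p ≠ 3) (hp5 : p ≠ 5) {h : G3}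
    (hn : ∀ x ∈ P, h * x * h⁻¹ ∈ P) (hs : ¬ Small (act e hn ga)) : False := by
  obtain ⟨y, hn', g₀, -, h1, h2⟩ := six_swap_form e p hP hp3 hn hs
  obtain ⟨-, -, -, -, -, -, -, -, -, -, -, -, r1, -, -, -, hbig, hne⟩ := basic
  obtain ⟨-, ⟨u, hu⟩⟩ := act_conj e hn'
  have hc := act_third e hn'
  rw [h1, h2] at hc
  obtain ⟨g, hg⟩ := big_third (act e hn' gc) (hu ▸ h1.symm ▸ big_conj_self hbig u) hc.1 hc.2.1 hc.2.2.1 hc.2.2.2
  have hq : indQ hn' (e.symm (ga * gc)) = e.symm g * (e.symm (ga * gc)) ^ 2 * (e.symm g)⁻¹ := by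
    rw [← map_pow, ← map_inv, ← map_mul, ← map_mul, hg, ← h1, ← map_mul (act e hn')]
    simp [act]
  obtain ⟨-, -, ⟨w, hw⟩⟩ := conj_gc
  have hconj : IsConj (e.symm (ga * gc)) (e.symm (ga * gc))⁻¹ := isConj_iff.2
    ⟨e.symm w, by rw [← map_inv, ← map_mul, ← map_mul, hw, map_inv]⟩
  obtain ⟨v, hv, hvc, hvn⟩ := hP.real_lift hconj
  have hv5 : v ^ 5 = 1 := hvn 5 (by rw [← map_pow, r1, map_one])
  obtain ⟨γ, hγ⟩ := QuotientGroup.mk'_surjective _ (e.symm g)
  set v' : P := ⟨(y : G3) * h * v.1 * ((y : G3) * h)⁻¹, hn' _ v.2⟩ with hv'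
  have hpz : piZ P v' = piZ P (γ * v ^ 2 * γ⁻¹) := by
    rw [← indQ_piZ hn' v, hv, hq, map_mul (piZ P), map_mul (piZ P), map_inv (piZ P), map_pow (piZ P), hv,
      show piZ P γ = e.symm g from hγ]
  obtain ⟨z, hz, ez⟩ := lift_eq hpz
  set w₂ : P := γ * v ^ 2 * γ⁻¹ with hw₂
  have hw5 : (w₂ : G3) ^ 5 = 1 := coe_pow_eq_one (by
    rw [hw₂, conj_pow, ← pow_mul, mul_comm 2 5, pow_mul, hv5, one_pow]; group)
  have hv'5 : (v' : G3) ^ 5 = 1 := by
    show ((y : G3) * h * v.1 * ((y : G3) * h)⁻¹) ^ 5 = 1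
    rw [conj_pow, coe_pow_eq_one hv5]; group
  rw [ez, (show Commute (w₂ : G3) z from (scalar_comm_all hz _).symm).mul_pow, hw5, one_mul] at hv'5
  have hzP : z ∈ P := by
    have : z = ((w₂⁻¹ * v' : P) : G3) := by rw [Subgroup.coe_mul, InvMemClass.coe_inv, ez]; group
    rw [this]
    exact SetLike.coe_mem _
  have hz3 : (⟨z, hzP⟩ : P) ^ 3 = 1 := hP.pow_three_of_scalar hz
  have hz1 : z = 1 := by
    exact eq_one_of_coprime_pows hv'5 (congrArg Subtype.val hz3) (by norm_num)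
  rw [hz1, mul_one] at ez
  have htr : tr ((v ^ 2 : P) : G3) = tr (v : G3) := by
    rw [tr_of_isConj (show IsConj (v ^ 2) w₂ from isConj_iff.2 ⟨γ, rfl⟩), ← ez]
    exact (tr_conj (x := (v : G3)) (isConj_iff.2 ⟨(y : G3) * h, rfl⟩)).symm
  have hab := tr_inv_of_real hvc
  have hd := hP.det_eq v.2
  rw [SubmonoidClass.coe_pow] at htr
  have hv5' := coe_pow_eq_one hv5
  have hv1 : (v : G3) = 1 := by
    rcases order_five_sq hd hab htr with e0 | e3
    · have h3 := pow_three_eq_one_of_tr hd e0 (hab.trans e0)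
      exact eq_one_of_coprime_pows hv5' h3 (by norm_num)
    · exact eq_one_of_tr_three (p := p) hd e3 (hab.trans e3) hv5'
        ((Nat.coprime_primes Fact.out (by norm_num)).2 hp5)
  have : piZ P v = 1 := by rw [show v = 1 from Subtype.ext hv1, map_one]
  rw [hv] at this
  exact hne (e.symm.injective (this.trans (map_one _).symm))

end Six

/-- Normalisers of an alternating core of degree six. -/
theorem six_index (p : ℕ) [Fact p.Prime] [CharP F p] (hp3 : p ≠ 3) {H : Subgroup G3}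
    (hres : Cfsg.Geo.IsResidualCore H P) (e : P ⧸ Subgroup.subgroupOf Zs P ≃* alternatingGroup (Fin 6)) :
    (∀ h₁ ∈ H, ∀ h₂ ∈ H, h₁ ∉ P ⊔ Zs → h₂ ∉ P ⊔ Zs → h₁⁻¹ * h₂ ∈ P ⊔ Zs) ∧ (p ≠ 5 → H ≤ P ⊔ Zs) := by
  have hP := Core.of_residual hres
  refine ⟨fun h₁ m₁ h₂ m₂ n₁ n₂ => ?_, fun hp5 h hh => ?_⟩
  · have hn₁ := hres.normal _ m₁
    have hn₂ := hres.normal _ m₂
    have hm := H.mul_mem (H.inv_mem m₁) m₂
    have hn := hres.normal _ hm
    by_contra hout
    have s₂ : ¬ Small (act e hn₂ ga) := fun h => n₂ (six_preserve e p hp3 hres m₂ hn₂ h)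
    obtain ⟨y, hn', g, hy, e1, e2⟩ := six_swap_form e p hP hp3 hn₁ fun h => n₁ (six_preserve e p hp3 hres m₁ hn₁ h)
    have e3 : Small (act e hn₁ (ga * gb)) := by
      have : g * act e hn₁ (ga * gb) * g⁻¹ = ga⁻¹ := by
        rw [← hy, map_mul, e1, e2]
        obtain ⟨ha, -, hab, -⟩ := basic
        rw [show ga * gb * (ga * gb⁻¹) = ga * (gb * ga) * gb⁻¹ by group, ← hab]
        rw [show ga * (ga * gb) * gb⁻¹ = ga * ga by group]
        exact eq_inv_of_mul_eq_one_left ha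
      have hsa : Small ga := basic.2.2.2.2.2.1
      have := small_conj_self (small_inv hsa) g⁻¹
      rwa [← ‹g * act e hn₁ (ga * gb) * g⁻¹ = ga⁻¹›, inv_inv,
        show g⁻¹ * (g * act e hn₁ (ga * gb) * g⁻¹) * g = act e hn₁ (ga * gb) by group] at this
    have key : act e hn₂ ga = act e hn₁ (act e hn ga) := by
      rw [← act_mul e hn₁ hn]
      simp only [act, MonoidHom.comp_apply, MulEquiv.coe_toMonoidHom]
      congr 1
      obtain ⟨x, hx⟩ := QuotientGroup.mk'_surjective _ (e.symm ga)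
      rw [show e.symm ga = piZ P x from hx.symm, indQ_piZ, indQ_piZ]
      congr 1
      exact Subtype.ext (by simp)
    obtain ⟨u, hu⟩ := big_conj _ ((small_or_big _ (by
        obtain ⟨ha, -⟩ := basic; rw [← map_mul, ← map_mul, ha, map_one])
      (fun h => basic.2.2.2.2.2.2.2.2.1 (act_injective e hn (h.trans (map_one _).symm)))).resolve_left
        fun h => hout (six_preserve e p hp3 hres hm hn h))
    refine s₂ ?_
    rw [key, show act e hn ga = u⁻¹ * (ga * gb) * u⁻¹⁻¹ by rw [← hu]; group, map_mul, map_mul, map_inv]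
    exact small_conj_self e3 _
  · by_contra hh'
    exact six_swap_false e p hP hp3 hp5 (hres.normal _ hh) fun h => hh' (six_preserve e p hp3 hres hh _ h)

/-- Normalisers of an alternating core of degree seven. -/
theorem seven_index (p : ℕ) [Fact p.Prime] [CharP F p] (hp3 : p ≠ 3) {H : Subgroup G3}
    (hres : Cfsg.Geo.IsResidualCore H P) (e : P ⧸ Subgroup.subgroupOf Zs P ≃* alternatingGroup (Fin 7)) :
    H ≤ P ⊔ Zs := by
  intro h hh
  have hP := Core.of_residual hres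
  have hn := hres.normal _ hh
  haveI : Finite (alternatingGroup (Fin 7)) := inferInstance
  let φ : MulAut (alternatingGroup (Fin 7)) :=
    MulEquiv.ofBijective (act e hn) (Finite.injective_iff_bijective.1 (act_injective e hn))
  obtain ⟨σ, hσ⟩ := (Cfsg.Agent.S2119.result 7 (by norm_num) (by norm_num)).2 φ
  have hφ : ∀ a, (act e hn a).1 = σ * a.1 * σ⁻¹ := fun a => by
    show (φ a).1 = _
    rw [← hσ]
    rfl
  rcases Int.units_eq_one_or (Equiv.Perm.sign σ) with hs | hs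
  · obtain ⟨y, hn', hy⟩ := exists_shift e hn (⟨σ, Equiv.Perm.mem_alternatingGroup.2 hs⟩⁻¹ : alternatingGroup (Fin 7))
    refine mem_of_act_id hres e hh y hn' fun a => Subtype.ext ?_
    rw [hy]
    simp [hφ, mul_assoc]
  · exfalso
    let τ : Equiv.Perm (Fin 7) := Equiv.swap 0 1
    obtain ⟨y, hn', hy⟩ := exists_shift e hn (⟨τ * σ⁻¹, Equiv.Perm.mem_alternatingGroup.2 (by
      simp [τ, hs])⟩ : alternatingGroup (Fin 7))
    have hact : ∀ a, (act e hn' a).1 = τ * a.1 * τ⁻¹ := fun a => by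
      rw [hy]
      simp [hφ, mul_assoc]
    let a : alternatingGroup (Fin 7) := ⟨Equiv.swap 0 1 * Equiv.swap 1 2, Equiv.Perm.mem_alternatingGroup.2 (by simp [Equiv.Perm.sign_swap])⟩
    let b : alternatingGroup (Fin 7) := ⟨Equiv.swap 3 4 * Equiv.swap 4 5, Equiv.Perm.mem_alternatingGroup.2 (by simp [Equiv.Perm.sign_swap])⟩
    let c : alternatingGroup (Fin 7) := ⟨Equiv.swap 0 1 * Equiv.swap 3 4, Equiv.Perm.mem_alternatingGroup.2 (by simp [Equiv.Perm.sign_swap])⟩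
    obtain ⟨ha, hb, hab, hca, hcb, hind, hτa, hτb⟩ : a ^ 3 = 1 ∧ b ^ 3 = 1 ∧ a * b = b * a ∧ c * a * c⁻¹ = a⁻¹ ∧
        c * b * c⁻¹ = b⁻¹ ∧ (∀ i j : Fin 3, a ^ (i : ℕ) * b ^ (j : ℕ) = 1 → i = 0 ∧ j = 0) ∧
        τ * a.1 * τ⁻¹ = (a⁻¹).1 ∧ τ * b.1 * τ⁻¹ = b.1 := by
      decide +kernel
    have key : ∀ u v, act e hn' u = v → indQ hn' (e.symm u) = e.symm v := fun u v h1 => by
      rw [← h1]
      simp [act]
    refine no_flip p hP hp3 (a := e.symm a) (b := e.symm b) (c := e.symm c) (by rw [← map_pow, ha, map_one])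
      (by rw [← map_pow, hb, map_one]) (fun i j h => hind i j (e.symm.injective (by rw [map_mul, map_pow, map_pow, map_one, h])))
      (by rw [← map_inv, ← map_mul, ← map_mul, hca, map_inv]) (by rw [← map_inv, ← map_mul, ← map_mul, hcb, map_inv])
      (by rw [← map_mul, ← map_mul, hab]) hn'
      (Or.inl ⟨(key _ _ (Subtype.ext ((hact a).trans hτa))).trans (map_inv _ _), key _ _ (Subtype.ext ((hact b).trans hτb))⟩)

end CfsgLib.ResThree
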