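import Cfsg.Agent.Lib.MaxSub.ResThree.Sub.QSimple
import Cfsg.Agent.Lib.MaxSub.ResThree.RankOne

/-!
An overgroup of a simple core is, modulo scalars, an overgroup of a primitive core over the field of traces.
-/

set_option autoImplicit false
set_option linter.unusedSectionVars false
set_option linter.style.haveILetI false

namespace CfsgLib.ResThree

open Matrix
open scoped commutatorElement

variable {F : Type*} [Field F]

local notation "G3" => Matrix.GeneralLinearGroup (Fin 3) F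
local notation "M3" => Matrix (Fin 3) (Fin 3) F
local notation "Zs" => Cfsg.Geo.scalars (Fin 3) F

/-- A group containing the scalars with a simple core and cube determinants. -/
structure Over (H P : Subgroup (Matrix.GeneralLinearGroup (Fin 3) F)) : Prop where
  scalars_le : Cfsg.Geo.scalars (Fin 3) F ≤ H
  le : P ≤ H
  normal : ∀ h ∈ H, ∀ x ∈ P, h * x * h⁻¹ ∈ P
  core : Core P
  cube : ∀ h ∈ H, ∃ c : F, h.1.det = c ^ 3

/-- Base change from a subfield followed by a conjugation. -/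
noncomputable def baseHom (F₀ : Subfield F) (B : Matrix.GeneralLinearGroup (Fin 3) F) :
    Matrix.GeneralLinearGroup (Fin 3) F₀ →* Matrix.GeneralLinearGroup (Fin 3) F :=
  (MulAut.conj B⁻¹).toMonoidHom.comp (Matrix.GeneralLinearGroup.map F₀.subtype)

theorem baseHom_coe (F₀ : Subfield F) (B : G3) (M : Matrix.GeneralLinearGroup (Fin 3) F₀) :
    (baseHom F₀ B M).1 = (B⁻¹ : G3).1 * M.1.map F₀.subtype * B.1 := by
  simp [baseHom, MulAut.conj_apply, Matrix.GeneralLinearGroup.map]

theorem baseHom_injective (F₀ : Subfield F) (B : G3) : Function.Injective (baseHom F₀ B) := by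
  intro a b e
  have h := (MulAut.conj B⁻¹).injective e
  refine Units.ext (Matrix.map_injective F₀.subtype.injective ?_)
  exact congrArg Units.val h

theorem baseHom_trace (F₀ : Subfield F) (B : G3) (M : Matrix.GeneralLinearGroup (Fin 3) F₀) :
    (baseHom F₀ B M).1.trace = F₀.subtype M.1.trace := by
  rw [baseHom_coe, Matrix.trace_mul_comm, ← Matrix.mul_assoc, Units.mul_inv, one_mul]
  exact (map_sum F₀.subtype _ _).symm

theorem baseHom_det (F₀ : Subfield F) (B : G3) (M : Matrix.GeneralLinearGroup (Fin 3) F₀) :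
    (baseHom F₀ B M).1.det = F₀.subtype M.1.det := by
  rw [baseHom_coe, RingHom.map_det, RingHom.mapMatrix_apply, Matrix.det_mul, Matrix.det_mul, mul_right_comm,
    ← Matrix.det_mul, Units.inv_mul, Matrix.det_one, one_mul]

theorem baseHom_scalar (F₀ : Subfield F) (B : G3) (M : Matrix.GeneralLinearGroup (Fin 3) F₀) :
    baseHom F₀ B M ∈ Zs ↔ M ∈ Cfsg.Geo.scalars (Fin 3) F₀ := by
  rw [Cfsg.Geo.mem_scalars_iff, Cfsg.Geo.mem_scalars_iff]
  constructor
  · rintro ⟨c, hc⟩
    have h : M.1.map F₀.subtype = (c : F) • (1 : M3) := by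
      have := congrArg (fun X => B.1 * X * (B⁻¹ : G3).1) ((baseHom_coe F₀ B M).symm.trans hc)
      simpa [mul_assoc, Units.mul_inv_cancel_left] using this
    have h00 : ∀ i j, (M.1 i j : F) = if i = j then (c : F) else 0 := fun i j => by
      have := congrFun (congrFun h i) j
      simpa [Matrix.one_apply] using this
    have hc0 : M.1 0 0 ≠ 0 := fun e => by
      have := h00 0 0
      rw [e] at this
      simp at this
      exact c.ne_zero this.symm
    refine ⟨Units.mk0 _ hc0, ?_⟩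
    ext i j
    have hij := h00 i j
    have h0 := h00 0 0
    simp only [if_true] at h0
    simp only [Units.val_mk0, Matrix.smul_apply, Matrix.one_apply, smul_eq_mul, mul_ite, mul_one, mul_zero]
    split_ifs with e <;> simp_all
  · rintro ⟨c, hc⟩
    refine ⟨Units.map F₀.subtype.toMonoidHom c, ?_⟩
    rw [baseHom_coe, hc]
    have : ((c : F₀) • (1 : Matrix (Fin 3) (Fin 3) F₀)).map F₀.subtype = ((c : F₀) : F) • (1 : M3) := by
      ext i j; by_cases e : i = j <;> simp [e]
    rw [this, Matrix.mul_smul, Matrix.smul_mul, mul_one, Units.inv_mul]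
    rfl

variable [Finite F] {H P : Subgroup (Matrix.GeneralLinearGroup (Fin 3) F)}

/-- Descent to the field of traces. -/
theorem Over.descend (h : Over H P) (h2 : (2 : F) ≠ 0) :
    ∃ (F₀ : Subfield F) (H₀ P₀ : Subgroup (Matrix.GeneralLinearGroup (Fin 3) F₀)),
      Cfsg.Geo.IsResidualCore H₀ P₀ ∧ Cfsg.Geo.scalars (Fin 3) F₀ ≤ H₀ ∧
      (∀ M ∈ H₀, ∃ c : F, F₀.subtype M.1.det = c ^ 3) ∧
      Nonempty (H ⧸ Subgroup.subgroupOf Zs H ≃* H₀ ⧸ (Cfsg.Geo.scalars (Fin 3) F₀).subgroupOf H₀) := by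
  classical
  have hP := h.core
  set F₀ : Subfield F := Subfield.closure ((fun g : G3 => g.1.trace) '' (P : Set G3)) with hF₀
  have htr : ∀ g ∈ P, g.1.trace ∈ F₀ := fun g hg => Subfield.subset_closure ⟨g, hg, rfl⟩
  obtain ⟨B, hB⟩ := realisable_of_trace_three hP.envelope_top htr
  set φ := baseHom F₀ B with hφ
  have hinj := baseHom_injective F₀ B
  set P₀ := P.comap φ with hP₀
  set H₀ := H.comap φ with hH₀
  have hmem : ∀ x ∈ P, ∃ y, φ y = x := fun x hx => by
    let M : Matrix (Fin 3) (Fin 3) F₀ := Matrix.of fun i j =>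
      ⟨(B.1 * x.1 * (B⁻¹ : G3).1) i j, hB _ ⟨x, hx, rfl⟩ i j⟩
    have hM : M.map F₀.subtype = B.1 * x.1 * (B⁻¹ : G3).1 := rfl
    have hdet : M.det ≠ 0 := fun e => by
      have h1 := congrArg Matrix.det hM
      rw [← RingHom.mapMatrix_apply, ← RingHom.map_det, e, map_zero, ← Units.val_mul, ← Units.val_mul] at h1
      exact (B * x * B⁻¹ : G3).det_ne_zero h1.symm
    refine ⟨Matrix.GeneralLinearGroup.mkOfDetNeZero M hdet, Units.ext ?_⟩
    rw [hφ, baseHom_coe, show (Matrix.GeneralLinearGroup.mkOfDetNeZero M hdet).1 = M from rfl, hM]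
    simp [mul_assoc]
  have hmap : P₀.map φ = P :=
    Subgroup.map_comap_eq_self (fun x hx => hmem x hx)
  have hperf : ⁅P₀, P₀⁆ = P₀ := Subgroup.map_injective hinj (by rw [Subgroup.map_commutator, hmap, hP.perfect])
  -- the core over the subfield
  let ψ : P₀ →* P := (φ.comp P₀.subtype).codRestrict P fun x => x.2
  have hψs : Function.Surjective ψ := fun x => by
    obtain ⟨y, hy⟩ := hmem x.1 x.2
    exact ⟨⟨y, show φ y ∈ P by rw [hy]; exact x.2⟩, Subtype.ext hy⟩
  let ψq : P₀ →* P ⧸ Subgroup.subgroupOf Zs P := (QuotientGroup.mk' _).comp ψ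
  have hψk : ψq.ker = (Cfsg.Geo.scalars (Fin 3) F₀).subgroupOf P₀ := by
    ext x
    rw [MonoidHom.mem_ker]
    exact (QuotientGroup.eq_one_iff _).trans (baseHom_scalar F₀ B x.1)
  let eq₀ : P₀ ⧸ (Cfsg.Geo.scalars (Fin 3) F₀).subgroupOf P₀ ≃* P ⧸ Subgroup.subgroupOf Zs P :=
    (QuotientGroup.quotientMulEquivOfEq hψk.symm).trans
      (QuotientGroup.quotientKerEquivOfSurjective ψq ((QuotientGroup.mk'_surjective _).comp hψs))
  haveI := hP.simple
  have hqs : QS P₀ := ⟨hperf, eq₀.isSimpleGroup, fun hc => hP.nonabelian ⟨⟨fun a b => eq₀.symm.injective (by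
    rw [map_mul, map_mul]; exact hc.is_comm.comm _ _)⟩⟩⟩
  have h2' : (2 : F₀) ≠ 0 := fun e => h2 (by
    have := congrArg F₀.subtype e
    simpa [map_ofNat] using this)
  have hP₀c := hqs.core h2'
  -- every member of `H` is a scalar times a member over the subfield
  have hfac : ∀ g ∈ H, ∃ M ∈ H₀, g⁻¹ * φ M ∈ Zs := by
    intro g hg
    have hρ : ∀ x : P₀, ∃ y : P₀, φ y.1 = g * φ x.1 * g⁻¹ := fun x => by
      have hm := h.normal g hg _ (x.2 : φ x.1 ∈ P)
      obtain ⟨y, hy⟩ := hmem _ hm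
      exact ⟨⟨y, show φ y ∈ P by rw [hy]; exact hm⟩, hy⟩
    choose f hf using hρ
    let ρ₂ : P₀ →* Matrix.GeneralLinearGroup (Fin 3) F₀ :=
      { toFun := fun x => (f x).1
        map_one' := hinj (by rw [hf, OneMemClass.coe_one, map_one]; group)
        map_mul' := fun a b => hinj (by
          rw [hf, Subgroup.coe_mul, map_mul, map_mul, hf, hf]; group) }
    have hspan : Spans ρ₂ := by
      rw [Spans, ← top_le_iff, ← hP₀c.envelope_top, CfsgLib.Aschbacher.envelope]
      refine Submodule.span_mono ?_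
      rintro _ ⟨y, hy, rfl⟩
      obtain ⟨x, hx⟩ := hmem _ (show g⁻¹ * φ y * g ∈ P by
        simpa using h.normal g⁻¹ (H.inv_mem hg) _ hy)
      refine ⟨⟨x, show φ x ∈ P by rw [hx]; simpa using h.normal g⁻¹ (H.inv_mem hg) _ hy⟩, ?_⟩
      show (f _).1.1 = y.1
      exact congrArg Units.val (hinj (by rw [← hφ, hf, hx]; group))
    obtain ⟨M, hM⟩ := intertwiner P₀.subtype ρ₂ (spans_subtype hP₀c.envelope_top) hspan (fun x => by
      apply F₀.subtype.injective
      show F₀.subtype x.1.1.trace = F₀.subtype (f x).1.1.trace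
      rw [← baseHom_trace F₀ B, ← baseHom_trace F₀ B, ← hφ, hf, Units.val_mul, Units.val_mul,
        Matrix.trace_mul_comm, ← Matrix.mul_assoc, Units.inv_mul, one_mul])
    have hc : ∀ x ∈ P, x * (g⁻¹ * φ M) = g⁻¹ * φ M * x := by
      intro x hx
      obtain ⟨y, rfl⟩ := hmem x hx
      have e : M * y = (f ⟨y, hx⟩).1 * M := Units.ext (hM ⟨y, hx⟩)
      have e' := congrArg φ e
      rw [map_mul, map_mul, hf] at e'
      calc φ y * (g⁻¹ * φ M) = g⁻¹ * (g * φ y * g⁻¹ * φ M) := by group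
        _ = g⁻¹ * (φ M * φ y) := by rw [e']
        _ = g⁻¹ * φ M * φ y := by group
    obtain ⟨c, hc'⟩ := scalar_of_commute hP.envelope_top (M := (g⁻¹ * φ M : G3).1)
      (fun x hx => congrArg Units.val (hc x hx))
    have hc0 : c ≠ 0 := by
      rintro rfl
      rw [zero_smul] at hc'
      exact (g⁻¹ * φ M).ne_zero hc'
    have hs : g⁻¹ * φ M ∈ Zs := (Cfsg.Geo.mem_scalars_iff _).2 ⟨Units.mk0 c hc0, hc'⟩
    refine ⟨M, show φ M ∈ H from ?_, hs⟩
    simpa using H.mul_mem hg (h.scalars_le hs)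
  refine ⟨F₀, H₀, P₀, ⟨Subgroup.comap_mono h.le, fun M hM x hx => ?_, hperf, hqs.simple, hqs.nonabelian, ?_,
    hP₀c.absIrred, ?_⟩, fun M hM => h.scalars_le ((baseHom_scalar F₀ B M).2 hM), fun M hM => ?_, ?_⟩
  · show φ (M * x * M⁻¹) ∈ P
    rw [map_mul, map_mul, map_inv]
    exact h.normal _ hM _ hx
  · intro M hM hc
    obtain ⟨c, hc'⟩ := scalar_of_commute hP₀c.envelope_top (M := M.1)
      (fun x hx => (congrArg Units.val (comm_of_mod_scalar hperf hc x hx)).symm)
    have hc0 : c ≠ 0 := by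
      rintro rfl
      rw [zero_smul] at hc'
      exact M.ne_zero hc'
    exact (Cfsg.Geo.mem_scalars_iff _).2 ⟨Units.mk0 c hc0, hc'⟩
  · -- the traces generate the subfield
    intro F₁ hne hreal
    obtain ⟨C, hC⟩ := hreal
    have htr₀ : ∀ x ∈ P₀, x.1.trace ∈ F₁ := fun x hx => by
      have e : (C.1 * x.1 * (C⁻¹).1).trace = x.1.trace := by
        rw [Matrix.trace_mul_comm, ← Matrix.mul_assoc, Units.inv_mul, one_mul]
      rw [← e]
      exact F₁.sum_mem fun i _ => hC _ ⟨x, hx, rfl⟩ i i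
    have hle : F₀ ≤ F₁.map F₀.subtype := by
      refine Subfield.closure_le.2 ?_
      rintro _ ⟨x, hx, rfl⟩
      obtain ⟨y, rfl⟩ := hmem x hx
      exact ⟨y.1.trace, htr₀ y hx, (baseHom_trace F₀ B y).symm⟩
    refine hne (top_le_iff.1 fun x _ => ?_)
    obtain ⟨y, hy, hxy⟩ := hle x.2
    rwa [show x = y from Subtype.ext hxy.symm]
  · obtain ⟨c, hc⟩ := h.cube _ hM
    exact ⟨c, by rw [← baseHom_det F₀ B]; exact hc⟩
  · let θ : H₀ →* H ⧸ Subgroup.subgroupOf Zs H :=
      (QuotientGroup.mk' _).comp ((φ.comp H₀.subtype).codRestrict H fun x => x.2)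
    have hθs : Function.Surjective θ := fun a => by
      obtain ⟨g, rfl⟩ := QuotientGroup.mk'_surjective _ a
      obtain ⟨M, hM, hs⟩ := hfac g.1 g.2
      exact ⟨⟨M, hM⟩, ((QuotientGroup.eq (a := g) (b := (⟨φ M, hM⟩ : H))).2 hs).symm⟩
    have hθk : θ.ker = (Cfsg.Geo.scalars (Fin 3) F₀).subgroupOf H₀ := by
      ext x
      rw [MonoidHom.mem_ker]
      exact (QuotientGroup.eq_one_iff _).trans (baseHom_scalar F₀ B x.1)
    exact ⟨((QuotientGroup.quotientMulEquivOfEq hθk.symm).trans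
      (QuotientGroup.quotientKerEquivOfSurjective θ hθs)).symm⟩

end CfsgLib.ResThree
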