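import Cfsg.Agent.Lib.MaxSub.ResThree.Sub.Quot

/-!
Overgroups of the special linear group.
-/

set_option autoImplicit false
set_option linter.unusedSectionVars false
set_option linter.style.haveILetI false

namespace CfsgLib.ResThree

open Matrix

variable {F : Type*} [Field F]

local notation "G3" => Matrix.GeneralLinearGroup (Fin 3) F
local notation "Zs" => Cfsg.Geo.scalars (Fin 3) F
local notation "PSL3" => Matrix.ProjectiveSpecialLinearGroup (Fin 3) F

theorem det_one_of_special {g : G3} (h : g ∈ Cfsg.Geo.specialLinear (Fin 3) F) : g.1.det = 1 :=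
  congrArg Units.val (MonoidHom.mem_ker.1 h)

/-- The core is the special linear group. -/
theorem linear_case [Finite F] {H P : Subgroup (Matrix.GeneralLinearGroup (Fin 3) F)}
    (hP : Core P) (hle : P ≤ H) (hZ : Zs ≤ H) (hSL : Cfsg.Geo.specialLinear (Fin 3) F ≤ P) :
    Nonempty (H ⧸ Subgroup.subgroupOf Zs H ≃* PSL3) ∨
      ((∃ h ∈ H, ∀ d : F, h.1.det ≠ d ^ 3) ∧
        ∃ L : Subgroup (H ⧸ Subgroup.subgroupOf Zs H), L.index = 3 ∧ Nonempty (L ≃* PSL3)) := by
  have hPS : P = Cfsg.Geo.specialLinear (Fin 3) F := le_antisymm hP.le_specialLinear hSL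
  let f : Matrix.SpecialLinearGroup (Fin 3) F →* P :=
    (Matrix.SpecialLinearGroup.toGL).codRestrict P fun s => hSL (by
      rw [Cfsg.Geo.specialLinear, MonoidHom.mem_ker]
      exact Units.ext s.2)
  have hf : Function.Bijective f := by
    refine ⟨fun a b h => Subtype.ext (congrArg (fun x : P => x.1.1) h), fun x => ⟨⟨x.1.1, hP.det_eq x.2⟩, ?_⟩⟩
    exact Subtype.ext (Units.ext rfl)
  obtain ⟨eP⟩ := quot_center hP (MulEquiv.ofBijective f hf)
  have hcube : ∀ h ∈ H, ∀ d : F, h.1.det = d ^ 3 → h ∈ P ⊔ Zs := by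
    intro h _ d hd
    have hd0 : d ≠ 0 := by rintro rfl; exact h.det_ne_zero (by rw [hd]; ring)
    obtain ⟨z, hz⟩ : ∃ z : G3, z.1 = d • (1 : Matrix (Fin 3) (Fin 3) F) :=
      ⟨Matrix.GeneralLinearGroup.mkOfDetNeZero (d • 1) (by simp [hd0]), rfl⟩
    have hzs : z ∈ Zs := (Cfsg.Geo.mem_scalars_iff z).2 ⟨Units.mk0 d hd0, hz⟩
    have hmem : h * z⁻¹ ∈ P := hSL (by
      rw [Cfsg.Geo.specialLinear, MonoidHom.mem_ker, map_mul, map_inv, mul_inv_eq_one]
      refine Units.ext ?_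
      show h.1.det = z.1.det
      rw [hd, hz, Matrix.det_smul, Matrix.det_one, Fintype.card_fin, mul_one])
    simpa using Subgroup.mul_mem_sup hmem hzs
  rcases index_cases hle (fun x hx => hP.det_eq hx) hZ hcube with h | ⟨h3, hex⟩
  · obtain ⟨e⟩ := quot_iso hle hZ h
    exact Or.inl ⟨e.trans eP⟩
  · obtain ⟨L, hL, ⟨e⟩⟩ := exists_sub hle hZ
    exact Or.inr ⟨hex, L, hL.trans h3, ⟨e.trans eP⟩⟩

end CfsgLib.ResThree
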