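import Cfsg.Agent.Lib.MaxSub.ResThree.Sub.Lift
import Cfsg.Agent.Lib.MaxSub.ResThree.Setup
import Cfsg.Agent.Lib.MaxSub.ResThree.RankOne
import Cfsg.Agent.Lib.PSL2Max.Scaled

/-!
The quotient of an overgroup of a core by the scalars, and determinants modulo cubes.
-/

set_option autoImplicit false
set_option linter.unusedSectionVars false
set_option linter.style.haveILetI false

namespace CfsgLib.ResThree

open Matrix

variable {F : Type*} [Field F]

local notation "G3" => Matrix.GeneralLinearGroup (Fin 3) F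
local notation "Zs" => Cfsg.Geo.scalars (Fin 3) F

variable {H P : Subgroup (Matrix.GeneralLinearGroup (Fin 3) F)}

/-- The image of the core in the quotient by the scalars. -/
theorem exists_sub (hPH : P ≤ H) (hZ : Zs ≤ H) :
    ∃ L : Subgroup (H ⧸ Subgroup.subgroupOf Zs H), L.index = ((P ⊔ Zs).subgroupOf H).index ∧
      Nonempty (L ≃* P ⧸ Subgroup.subgroupOf Zs P) := by
  let f : P →* H ⧸ Subgroup.subgroupOf Zs H := (QuotientGroup.mk' _).comp (Subgroup.inclusion hPH)
  have hker : f.ker = Subgroup.subgroupOf Zs P := by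
    ext x
    rw [MonoidHom.mem_ker]
    exact QuotientGroup.eq_one_iff _
  refine ⟨f.range, ?_, ⟨((QuotientGroup.quotientMulEquivOfEq hker.symm).trans (QuotientGroup.quotientKerEquivRange f)).symm⟩⟩
  rw [MonoidHom.range_comp, ← Subgroup.index_comap_of_surjective _ (QuotientGroup.mk'_surjective _),
    Subgroup.comap_map_eq, QuotientGroup.ker_mk', Subgroup.inclusion_range, ← Subgroup.subgroupOf_sup hPH hZ]

/-- An overgroup contained in the core times the scalars. -/
theorem quot_iso (hPH : P ≤ H) (hZ : Zs ≤ H) (h : H ≤ P ⊔ Zs) :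
    Nonempty (H ⧸ Subgroup.subgroupOf Zs H ≃* P ⧸ Subgroup.subgroupOf Zs P) := by
  obtain ⟨L, hL, ⟨e⟩⟩ := exists_sub hPH hZ
  rw [Subgroup.subgroupOf_eq_top.2 h, Subgroup.index_top, Subgroup.index_eq_one] at hL
  exact ⟨((MulEquiv.subgroupCongr hL).trans Subgroup.topEquiv).symm.trans e⟩

/-- The determinant modulo cubes cuts out a subgroup of index one or three. -/
theorem index_cases [Finite F] (hPH : P ≤ H) (hdet : ∀ x ∈ P, x.1.det = 1) (hZ : Zs ≤ H)
    (hcube : ∀ h ∈ H, ∀ d : F, h.1.det = d ^ 3 → h ∈ P ⊔ Zs) :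
    H ≤ P ⊔ Zs ∨ (((P ⊔ Zs).subgroupOf H).index = 3 ∧ ∃ h ∈ H, ∀ d : F, h.1.det ≠ d ^ 3) := by
  classical
  let C : Subgroup Fˣ := (powMonoidHom 3 : Fˣ →* Fˣ).range
  let χ : H →* Fˣ ⧸ C := (QuotientGroup.mk' C).comp (Matrix.GeneralLinearGroup.det.comp H.subtype)
  have hker : χ.ker = (P ⊔ Zs).subgroupOf H := by
    ext x
    rw [MonoidHom.mem_ker, Subgroup.mem_subgroupOf]
    constructor
    · intro hx
      obtain ⟨d, hd⟩ := (QuotientGroup.eq_one_iff _).1 hx
      refine hcube _ x.2 (d : F) ?_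
      have := congrArg Units.val hd
      rw [powMonoidHom_apply, Units.val_pow_eq_pow_val] at this
      exact this.symm
    · intro hx
      refine (QuotientGroup.eq_one_iff _).2 ?_
      have hP : ∀ y ∈ P ⊔ Zs, Matrix.GeneralLinearGroup.det y ∈ C := by
        intro y hy
        refine (sup_le (a := P) (b := Zs) (c := C.comap Matrix.GeneralLinearGroup.det) ?_ ?_) hy
        · intro z hz
          rw [Subgroup.mem_comap, show Matrix.GeneralLinearGroup.det z = 1 from Units.ext (hdet z hz)]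
          exact C.one_mem
        · intro z hz
          obtain ⟨c, hc⟩ := (Cfsg.Geo.mem_scalars_iff z).1 hz
          refine ⟨c, Units.ext ?_⟩
          show ((c ^ 3 : Fˣ) : F) = z.1.det
          rw [Units.val_pow_eq_pow_val, hc, Matrix.det_smul, Matrix.det_one, Fintype.card_fin, mul_one]
      exact hP _ hx
  have hC : Nat.card (Fˣ ⧸ C) ∣ 3 := by
    rw [← Subgroup.index_eq_card, IsCyclic.index_powMonoidHom_range]
    exact Nat.gcd_dvd_right _ _
  have hi : ((P ⊔ Zs).subgroupOf H).index ∣ 3 := by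
    rw [← hker, Subgroup.index_ker]
    exact (Subgroup.card_subgroup_dvd_card _).trans hC
  rcases (Nat.dvd_prime Nat.prime_three).1 hi with h1 | h3
  · exact Or.inl (Subgroup.subgroupOf_eq_top.1 (Subgroup.index_eq_one.1 h1))
  · refine Or.inr ⟨h3, ?_⟩
    by_contra hcon
    push Not at hcon
    have : (P ⊔ Zs).subgroupOf H = ⊤ := Subgroup.subgroupOf_eq_top.2 fun h hh => by
      obtain ⟨d, hd⟩ := hcon h hh
      exact hcube h hh d hd
    rw [this, Subgroup.index_top] at h3
    omega

/-- A copy of a core modulo its centre. -/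
theorem quot_center [Finite F] {S : Type*} [Group S] (hP : Core P) (e : S ≃* P) :
    Nonempty (P ⧸ Subgroup.subgroupOf Zs P ≃* S ⧸ Subgroup.center S) := by
  refine ⟨(QuotientGroup.congr _ _ e ?_).symm⟩
  rw [← hP.center_eq]
  ext y
  constructor
  · rintro ⟨x, hx, rfl⟩
    refine Subgroup.mem_center_iff.2 fun g => ?_
    have := Subgroup.mem_center_iff.1 hx (e.symm g)
    simpa using congrArg e this
  · intro hy
    refine ⟨e.symm y, Subgroup.mem_center_iff.2 fun g => ?_, e.apply_symm_apply y⟩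
    have := Subgroup.mem_center_iff.1 hy (e g)
    simpa using congrArg e.symm this

/-- The exponent of a subfield. -/
theorem subfield_exp [Fintype F] (F₀ : Subfield F) {p α : ℕ} (hp : p.Prime) (hF : Fintype.card F = p ^ α) :
    ∃ β, Nat.card F₀ = p ^ β ∧ β ∣ α := by
  classical
  haveI : Fintype F₀ := Fintype.ofFinite _
  have h := Module.card_eq_pow_finrank (K := F₀) (V := F)
  rw [hF] at h
  obtain ⟨β, -, hβ⟩ := (Nat.dvd_prime_pow hp).1 (h ▸ dvd_pow_self _ (Module.finrank_pos).ne' : Fintype.card F₀ ∣ p ^ α)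
  refine ⟨β, by rw [Nat.card_eq_fintype_card, hβ], Module.finrank F₀ F, ?_⟩
  rw [hβ, ← pow_mul] at h
  exact Nat.pow_right_injective hp.two_le h

/-- A noncube of a subfield becoming a cube upstairs. -/
theorem cube_descent [Fintype F] (F₀ : Subfield F) {p α β : ℕ} (hp : p.Prime) (hF : Fintype.card F = p ^ α)
    (h₀ : Nat.card F₀ = p ^ β) {d : F₀} (hd0 : d ≠ 0) {c : F} (hc : (d : F) = c ^ 3) (hne : ∀ e : F₀, d ≠ e ^ 3) :
    3 ∣ p ^ β - 1 ∧ 3 * β ∣ α := by
  classical
  haveI : Fintype F₀ := Fintype.ofFinite _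
  rw [Nat.card_eq_fintype_card] at h₀
  have hc0 : c ≠ 0 := fun e => hd0 (Subtype.ext (by rw [hc, e]; simp))
  have h3 : 3 ∣ p ^ β - 1 := by
    by_contra h
    have hcop : (Nat.card F₀ˣ).Coprime 3 := by
      rw [Nat.card_eq_fintype_card, Fintype.card_units, h₀]
      exact ((Nat.prime_three.coprime_iff_not_dvd).2 h).symm
    obtain ⟨e, he⟩ := (powCoprime hcop).surjective (Units.mk0 d hd0)
    exact hne e (by simpa using (congrArg Units.val he).symm)
  refine ⟨h3, ?_⟩
  obtain ⟨γ, hγ, k, hk⟩ := subfield_exp F₀ hp hF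
  rw [Nat.card_eq_fintype_card, h₀] at hγ
  obtain rfl := Nat.pow_right_injective hp.two_le hγ
  set ζ := c ^ (p ^ β - 1) with hζ
  have hζ3 : ζ ^ 3 = 1 := by
    rw [hζ, ← pow_mul, mul_comm, pow_mul, ← hc, ← h₀]
    have := FiniteField.pow_card_sub_one_eq_one d hd0
    exact_mod_cast congrArg Subtype.val this
  have hζ1 : ζ ≠ 1 := by
    intro e
    have hcF : c ∈ F₀ := by
      rw [CfsgLib.PSL2Max.mem_subfield_iff, Nat.card_eq_fintype_card, h₀]
      have hpos : 1 ≤ p ^ β := Nat.one_le_pow _ _ hp.pos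
      rw [← Nat.sub_add_cancel hpos, pow_succ, ← hζ, e, one_mul]
    exact hne ⟨c, hcF⟩ (Subtype.ext (by simpa using hc))
  have hstep : ∀ j : ℕ, c ^ (p ^ (β * j)) = c * ζ ^ j := by
    intro j
    induction j with
    | zero => simp
    | succ j ih =>
      have hpos : 1 ≤ p ^ β := Nat.one_le_pow _ _ hp.pos
      have h1 : ζ ^ (p ^ β) = ζ := by
        obtain ⟨m, hm⟩ := h3
        rw [← Nat.sub_add_cancel hpos, pow_succ, hm, pow_mul, hζ3, one_pow, one_mul]
      have h2 : c ^ (p ^ β) = c * ζ := by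
        rw [hζ, ← pow_succ', Nat.sub_add_cancel hpos]
      rw [show β * (j + 1) = β * j + β by ring, pow_add, pow_mul, ih, mul_pow, h2, ← pow_mul, mul_comm j,
        pow_mul, h1]
      ring
  have hk1 : ζ ^ k = 1 := by
    have := hstep k
    rw [← hk, ← hF, FiniteField.pow_card] at this
    exact (mul_left_cancel₀ hc0 (this.symm.trans (mul_one c).symm))
  obtain ⟨m, rfl⟩ : 3 ∣ k := by
    have := orderOf_dvd_of_pow_eq_one hk1
    rwa [orderOf_eq_prime hζ3 hζ1] at this
  exact ⟨m, by rw [hk]; ring⟩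

end CfsgLib.ResThree
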