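import Cfsg.Agent.Lib.MaxSub.ResThree.Sub.OrthThree
import Cfsg.Agent.Lib.MaxSub.ResThree.Sub.Quot
import Cfsg.Agent.Lib.DicksonFull.Main
import Cfsg.Agent.Lib.DicksonFull.Subgroups
import Cfsg.Agent.Lib.PSL2Max.Embed
import Cfsg.Agent.Lib.SLCard
import Cfsg.Agent.S0253
import Cfsg.Agent.S0496
import Cfsg.Agent.Lib.BaseThree.Classes

/-!
The overgroups of a core fixing a quadratic form.
-/

set_option autoImplicit false
set_option linter.unusedSectionVars false
set_option linter.style.haveILetI false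

namespace CfsgLib.ResThree

open Matrix
open scoped commutatorElement

/-- A subgroup of a Sylow normaliser in `PSL₂` is solvable. -/
theorem solvable_of_le_normalizer {E : Type*} [Field E] [Fintype E] (p : ℕ) [Fact p.Prime] [CharP E p]
    (P : Sylow p (Matrix.ProjectiveSpecialLinearGroup (Fin 2) E))
    (K : Subgroup (Matrix.ProjectiveSpecialLinearGroup (Fin 2) E))
    (hK : K ≤ Subgroup.normalizer ((P : Subgroup (Matrix.ProjectiveSpecialLinearGroup (Fin 2) E)) : Set
      (Matrix.ProjectiveSpecialLinearGroup (Fin 2) E))) : Group.IsSolvable K := by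
  classical
  have hPp : IsPGroup p (P : Subgroup (Matrix.ProjectiveSpecialLinearGroup (Fin 2) E)) := P.2
  have hPne : Nat.card (P : Subgroup (Matrix.ProjectiveSpecialLinearGroup (Fin 2) E)) = Fintype.card E := by
    rw [← DicksonFull.card_uSylow (F := E) p]
    exact Nat.card_congr (Sylow.equiv P (PSL2.uSylow (F := E) p)).toEquiv
  haveI : Nontrivial (P : Subgroup (Matrix.ProjectiveSpecialLinearGroup (Fin 2) E)) :=
    Finite.one_lt_card_iff_nontrivial.1 (by rw [hPne]; exact Fintype.one_lt_card)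
  haveI := hPp.center_nontrivial
  have hcp := hPp.to_subgroup (Subgroup.center (P : Subgroup (Matrix.ProjectiveSpecialLinearGroup (Fin 2) E)))
  obtain ⟨m, hm0, hm⟩ := hcp.nontrivial_iff_card.1 inferInstance
  obtain ⟨u₀, hu₀⟩ := exists_prime_orderOf_dvd_card'
    (G := Subgroup.center (P : Subgroup (Matrix.ProjectiveSpecialLinearGroup (Fin 2) E))) p
    (by rw [hm]; exact dvd_pow_self _ hm0.ne')
  set u : Matrix.ProjectiveSpecialLinearGroup (Fin 2) E := u₀.1.1 with hu
  have huo : orderOf u = p := by rw [hu, Subgroup.orderOf_coe, Subgroup.orderOf_coe, hu₀]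
  set A := DicksonFull.psl (F := E) p
  have hPu : ∀ y ∈ (P : Subgroup (Matrix.ProjectiveSpecialLinearGroup (Fin 2) E)), Commute y u := fun y hy =>
    congrArg Subtype.val (Subgroup.mem_center_iff.1 u₀.2 ⟨y, hy⟩)
  have hKu : ∀ k ∈ K, Commute (k * u * k⁻¹) u := fun k hk =>
    hPu _ ((Subgroup.mem_normalizer_iff.1 (hK hk) u).1 u₀.1.2)
  rw [Group.isSolvable_def]
  refine ⟨2, ?_⟩
  have h1 : derivedSeries K 1 ≤ (Subgroup.centralizer ({u} : Set (Matrix.ProjectiveSpecialLinearGroup (Fin 2) E))).subgroupOf K := by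
    rw [derivedSeries_one, commutator_def, Subgroup.commutator_le]
    intro a _ b _
    rw [Subgroup.mem_subgroupOf, Subgroup.mem_centralizer_singleton_iff]
    have := A.borel_comm u a.1 b.1 huo (hKu _ a.2) (hKu _ b.2)
    rw [commutatorElement_def]
    exact this.eq
  rw [derivedSeries_succ, eq_bot_iff, Subgroup.commutator_le]
  intro a ha b hb
  rw [Subgroup.mem_bot, commutatorElement_eq_one_iff_mul_comm]
  have ca : Commute (a : Matrix.ProjectiveSpecialLinearGroup (Fin 2) E) u :=
    Subgroup.mem_centralizer_singleton_iff.1 (h1 ha)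
  have cb : Commute (b : Matrix.ProjectiveSpecialLinearGroup (Fin 2) E) u :=
    Subgroup.mem_centralizer_singleton_iff.1 (h1 hb)
  exact Subtype.ext (A.u_cen u _ _ huo ca cb).1.eq

variable {F : Type} [Field F] [Fintype F]

local notation "G3" => Matrix.GeneralLinearGroup (Fin 3) F
local notation "Zs" => Cfsg.Geo.scalars (Fin 3) F

variable {H P : Subgroup (Matrix.GeneralLinearGroup (Fin 3) F)}

/-- The overgroup of a core is not solvable. -/
theorem quot_not_solvable (hres : Cfsg.Geo.IsResidualCore H P) (hZ : Zs ≤ H) :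
    ¬ Group.IsSolvable (H ⧸ Subgroup.subgroupOf Zs H) := by
  intro hs
  obtain ⟨L, -, ⟨e⟩⟩ := exists_sub hres.le hZ
  haveI := hs
  haveI := hres.simple
  haveI : Group.IsSolvable (P ⧸ Subgroup.subgroupOf Zs P) :=
    Group.isSolvable_of_isSolvable_injective (f := L.subtype.comp e.symm.toMonoidHom)
      (L.subtype_injective.comp e.symm.injective)
  exact hres.nonabelian ⟨⟨fun a b => IsSimpleGroup.comm_iff_isSolvable.2 inferInstance a b⟩⟩

/-- An overgroup of a core fixing a quadratic form. -/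
theorem quad_case (hres : Cfsg.Geo.IsResidualCore H P) (hZ : Zs ≤ H) (p : ℕ) [Fact p.Prime] [CharP F p] (hp : p ≠ 2)
    {β : ℕ} (hF : Fintype.card F = p ^ β)
    (hQ : ∃ Q : (Fin 3 → F) → F, Cfsg.Geo.IsNondegenerateQuadraticForm Q ∧
      Cfsg.Geo.FixesQuadForm (Cfsg.Geo.matrixSet P) Q) :
    (∃ (K : Type) (_ : Field K) (_ : Fintype K) (γ : ℕ), Fintype.card K = p ^ γ ∧ γ ∣ β ∧ p ^ γ ≠ 3 ∧
      (Nonempty (H ⧸ Subgroup.subgroupOf Zs H ≃* Matrix.ProjectiveSpecialLinearGroup (Fin 2) K) ∨
        Nonempty (H ⧸ Subgroup.subgroupOf Zs H ≃* (GL (Fin 2) K ⧸ Subgroup.center (GL (Fin 2) K))))) ∨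
      ((p ^ β % 5 = 1 ∨ p ^ β % 5 = 4) ∧ Nonempty (H ⧸ Subgroup.subgroupOf Zs H ≃* alternatingGroup (Fin 5))) := by
  classical
  have hpp : p.Prime := Fact.out
  have h2 : (2 : F) ≠ 0 := fun h => hp ((Nat.prime_dvd_prime_iff_eq hpp Nat.prime_two).1
    ((CharP.cast_eq_zero_iff F p 2).1 (by exact_mod_cast h)))
  obtain ⟨f, hf⟩ := exists_pgl_embedding hres hZ h2 hQ
  have hns := quot_not_solvable hres hZ
  set Q := H ⧸ Subgroup.subgroupOf Zs H
  -- inside `PSL₂` of the quadratic extension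
  let E := FiniteField.Extension F p 2
  haveI : Fintype E := Fintype.ofFinite _
  haveI : CharP E p := charP_of_injective_algebraMap (algebraMap F E).injective p
  have hcE : Fintype.card E = Fintype.card F ^ 2 := by
    rw [← Nat.card_eq_fintype_card, FiniteField.natCard_extension, Nat.card_eq_fintype_card]
  have hsq : ∀ x : F, IsSquare (algebraMap F E x) := by
    intro x
    rcases eq_or_ne x 0 with rfl | hx
    · rw [map_zero]; exact IsSquare.zero
    rw [FiniteField.isSquare_iff (by rw [ringChar.eq E p]; exact hp) (by simpa using hx), ← map_pow]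
    have hq : Fintype.card F % 2 = 1 := FiniteField.odd_card_of_char_ne_two (by rw [ringChar.eq F p]; exact hp)
    have e : Fintype.card E / 2 = (Fintype.card F - 1) * ((Fintype.card F + 1) / 2) := by
      obtain ⟨r, hr⟩ : ∃ r, Fintype.card F = 2 * r + 1 := ⟨Fintype.card F / 2, by omega⟩
      rw [hcE, hr, show (2 * r + 1) ^ 2 = 2 * (2 * r * (r + 1)) + 1 by ring, Nat.add_sub_cancel,
        show (2 * r + 1 + 1) / 2 = r + 1 by omega]
      omega
    rw [e, pow_mul, FiniteField.pow_card_sub_one_eq_one x hx, one_pow, map_one]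
  obtain ⟨R, ⟨eR⟩, -⟩ := CfsgLib.PSL2Max.exists_pgl (algebraMap F E) ⊤ (fun _ => trivial) hsq
  let g : Q →* Matrix.ProjectiveSpecialLinearGroup (Fin 2) E := R.subtype.comp (eR.symm.toMonoidHom.comp f)
  have hg : Function.Injective g := R.subtype_injective.comp (eR.symm.injective.comp hf)
  let eg : Q ≃* g.range := MonoidHom.ofInjective hg
  have hdvd : Nat.card Q ∣ Fintype.card F * (Fintype.card F ^ 2 - 1) := by
    rw [← CfsgLib.SLCard.card_SL_two (F := F), ← CfsgLib.SLCard.card_PGL (F := F)]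
    exact Subgroup.card_dvd_of_injective f hf
  have notsolv : ∀ (X : Type) [Group X], Group.IsSolvable X → Nonempty (g.range ≃* X) → False := fun X _ hX ⟨e⟩ => by
    haveI := hX
    exact hns (Group.isSolvable_of_isSolvable_injective (f := (eg.trans e).toMonoidHom) (eg.trans e).injective)
  rcases CfsgLib.DicksonFull.classification p g.range with ⟨k, -, h⟩ | ⟨S, K, hK, ⟨e⟩⟩ | h | h | h |
    ⟨K, hKf, hKt, m, hm, h⟩
  · rcases h with ⟨hc, -⟩ | ⟨⟨e⟩⟩
    · haveI := hc
      haveI : Group.IsSolvable g.range := Group.isSolvable_of_comm fun a b => (IsCyclic.isMulCommutative (α := g.range)).is_comm.comm a b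
      exact (hns (Group.isSolvable_of_isSolvable_injective (f := eg.toMonoidHom) eg.injective)).elim
    · refine (notsolv _ ?_ ⟨e⟩).elim
      rw [Group.isSolvable_def]
      refine ⟨2, ?_⟩
      have h1 : derivedSeries (DihedralGroup k) 1 ≤ Subgroup.zpowers (DihedralGroup.r (1 : ZMod k)) := by
        rw [derivedSeries_one, commutator_def, Subgroup.commutator_le]
        have hr : ∀ i : ZMod k, DihedralGroup.r i ∈ Subgroup.zpowers (DihedralGroup.r (1 : ZMod k)) := fun i =>
          Subgroup.mem_zpowers_iff.2 ⟨(i.cast : ℤ), by rw [DihedralGroup.r_one_zpow]; simp⟩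
        intro a _ b _
        rcases a with i | i <;> rcases b with j | j <;>
          simp only [commutatorElement_def, DihedralGroup.r_mul_r, DihedralGroup.r_mul_sr, DihedralGroup.sr_mul_r,
            DihedralGroup.sr_mul_sr, DihedralGroup.inv_r, DihedralGroup.inv_sr] <;> exact hr _
      rw [derivedSeries_succ, eq_bot_iff, Subgroup.commutator_le]
      intro a ha b hb
      obtain ⟨i, rfl⟩ := Subgroup.mem_zpowers_iff.1 (h1 ha)
      obtain ⟨j, rfl⟩ := Subgroup.mem_zpowers_iff.1 (h1 hb)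
      rw [Subgroup.mem_bot, commutatorElement_eq_one_iff_mul_comm]
      exact (Commute.zpow_zpow_self _ i j).eq
  · haveI := solvable_of_le_normalizer p S K hK
    haveI : Group.IsSolvable g.range := Group.isSolvable_of_isSolvable_injective (f := e.toMonoidHom) e.injective
    exact (hns (Group.isSolvable_of_isSolvable_injective (f := eg.toMonoidHom) eg.injective)).elim
  · obtain ⟨e⟩ := h
    haveI := CfsgLib.BaseThree.solvable_perm4
    exact (notsolv _ inferInstance ⟨e⟩).elim
  · obtain ⟨e⟩ := h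
    exact (notsolv _ CfsgLib.BaseThree.solvable_perm4 ⟨e⟩).elim
  · obtain ⟨e⟩ := h
    set e' : Q ≃* alternatingGroup (Fin 5) := eg.trans e
    by_cases hp5 : p = 5
    · subst hp5
      haveI : Fact (Nat.Prime 5) := ⟨by norm_num⟩
      obtain ⟨e5⟩ := Cfsg.Agent.S0253.result (F := ZMod 5) (ZMod.card 5)
      exact Or.inl ⟨ZMod 5, inferInstance, inferInstance, 1, by rw [ZMod.card, pow_one], one_dvd _, by norm_num,
        Or.inl ⟨e'.trans e5.symm⟩⟩
    · refine Or.inr ⟨?_, ⟨e'⟩⟩
      have h60 : Nat.card Q = 60 := by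
        rw [Nat.card_congr e'.toEquiv, nat_card_alternatingGroup]
        norm_num [Nat.factorial]
      rw [h60, hF] at hdvd
      have h5 : 5 ∣ p ^ β * ((p ^ β) ^ 2 - 1) := (by norm_num : (5 : ℕ) ∣ 60).trans hdvd
      have hn5 : p ^ β % 5 ≠ 0 := fun h0 => hp5 ((Nat.prime_dvd_prime_iff_eq (by norm_num) hpp).1
        ((Nat.prime_five).dvd_of_dvd_pow (Nat.dvd_of_mod_eq_zero h0))).symm
      rcases (Nat.prime_five.dvd_mul).1 h5 with h | h
      · omega
      · have hpos : 1 ≤ p ^ β := Nat.one_le_pow _ _ hpp.pos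
        have h' : (p ^ β) ^ 2 % 5 = 1 := by
          have : 1 ≤ (p ^ β) ^ 2 := Nat.one_le_pow _ _ (by omega)
          omega
        rw [Nat.pow_mod] at h'
        have hlt := Nat.mod_lt (p ^ β) (show 5 > 0 by norm_num)
        generalize p ^ β % 5 = r at h' hlt hn5
        interval_cases r <;> simp_all
  · letI := hKf
    letI := hKt
    rw [hcE, hF] at hm
    obtain ⟨γ, -, hγ⟩ := (Nat.dvd_prime_pow hpp).1 (show Fintype.card K ∣ p ^ (β * 2) from by
      rw [pow_mul, ← hm]
      exact dvd_pow_self _ (by rintro rfl; rw [pow_zero] at hm; have := Fintype.one_lt_card (α := F); nlinarith [hF]))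
    haveI : CharP K p := by
      obtain ⟨ℓ, hℓ⟩ := CharP.exists K
      obtain ⟨n, hℓp, hn⟩ := FiniteField.card K ℓ
      have h1 : ℓ ∣ p ^ γ := hγ ▸ hn ▸ dvd_pow_self _ n.pos.ne'
      obtain rfl := (Nat.prime_dvd_prime_iff_eq hℓp hpp).1 (hℓp.dvd_of_dvd_pow h1)
      exact hℓ
    have hγ0 : γ ≠ 0 := fun e => by
      have := Fintype.one_lt_card (α := K)
      rw [hγ, e] at this; simp at this
    -- the order of `PSL₂ K`
    have hK2 : Nat.card (Matrix.ProjectiveSpecialLinearGroup (Fin 2) K) * 2 = p ^ γ * ((p ^ γ) ^ 2 - 1) := by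
      have := CfsgLib.DicksonFull.card_psl (F := K)
      rw [hγ] at this
      rw [mul_comm, ← this]
      congr 1
      rcases CfsgLib.DicksonFull.gcd_cases (F := K) p with ⟨-, h⟩ | ⟨h, -⟩
      · rw [hγ] at h
        have : Odd (p ^ γ) := ((hpp.odd_of_ne_two hp).pow)
        rw [Nat.odd_iff] at this; omega
      · rw [← hγ, h]
    have hKQ : Nat.card (Matrix.ProjectiveSpecialLinearGroup (Fin 2) K) ∣ Nat.card Q := by
      rcases h with ⟨⟨e⟩⟩ | ⟨⟨e⟩⟩
      · rw [Nat.card_congr (eg.trans e).toEquiv]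
      · rw [Nat.card_congr (eg.trans e).toEquiv, CfsgLib.SLCard.card_PGL, CfsgLib.SLCard.card_SL_two, hγ, ← hK2]
        exact dvd_mul_right _ _
    have hdiv : γ ∣ β := by
      have h1 : (p ^ γ) ^ 2 - 1 ∣ 2 * (p ^ β * ((p ^ β) ^ 2 - 1)) := by
        have : p ^ γ * ((p ^ γ) ^ 2 - 1) ∣ (p ^ β * ((p ^ β) ^ 2 - 1)) * 2 := by
          rw [← hK2, ← hF]; exact Nat.mul_dvd_mul_right (hKQ.trans hdvd) 2
        exact (dvd_mul_left _ _).trans (this.trans (by rw [mul_comm]))
      have hcop : Nat.Coprime ((p ^ γ) ^ 2 - 1) (p ^ β) := by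
        refine Nat.Coprime.pow_right _ ((hpp.coprime_iff_not_dvd).2 fun hd => ?_).symm
        have hd2 : p ∣ (p ^ γ) ^ 2 := dvd_pow (dvd_pow_self _ hγ0) two_ne_zero
        have := Nat.dvd_sub hd2 hd
        rw [Nat.sub_sub_self (Nat.one_le_pow _ _ (Nat.one_le_pow _ _ hpp.pos))] at this
        exact hpp.not_dvd_one this
      rw [show 2 * (p ^ β * ((p ^ β) ^ 2 - 1)) = p ^ β * (2 * ((p ^ β) ^ 2 - 1)) by ring] at h1
      have h2' := hcop.dvd_of_dvd_mul_left h1
      rw [← pow_mul, ← pow_mul] at h2'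
      have h3 : p ^ (γ * 2) - 1 ∣ 2 * (p ^ Nat.gcd (γ * 2) (β * 2) - 1) := by
        rw [← Nat.pow_sub_one_gcd_pow_sub_one, ← Nat.gcd_mul_left]
        exact Nat.dvd_gcd (dvd_mul_left _ _) h2'
      rw [Nat.gcd_mul_right] at h3
      set d := Nat.gcd γ β with hd
      have hdγ : d ∣ γ := Nat.gcd_dvd_left _ _
      obtain ⟨k, hk⟩ := hdγ
      have hdpos : 0 < d := Nat.pos_of_ne_zero fun h0 => hγ0 (by rw [hk, h0, zero_mul])
      have hk1 : k = 1 := by
        by_contra hk1
        have hk2 : 2 ≤ k := by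
          rcases k with _ | _ | k
          · simp at hk; exact absurd hk hγ0
          · exact absurd rfl hk1
          · omega
        have hle : (p ^ (d * 2)) ^ 2 ≤ p ^ (γ * 2) := by
          rw [← pow_mul]; exact Nat.pow_le_pow_right hpp.pos (by rw [hk]; nlinarith)
        have hbig : 9 ≤ p ^ (d * 2) := by
          have h3p : 3 ≤ p := by have := hpp.two_le; omega
          calc 9 = 3 ^ 2 := by norm_num
            _ ≤ p ^ 2 := Nat.pow_le_pow_left h3p 2
            _ ≤ p ^ (d * 2) := Nat.pow_le_pow_right hpp.pos (by omega)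
        have hle' := Nat.le_of_dvd (by omega) h3
        generalize p ^ (d * 2) = a at hle hbig hle'
        generalize p ^ (γ * 2) = b at hle hle'
        have : 9 * a ≤ a ^ 2 := by rw [pow_two]; exact Nat.mul_le_mul_right _ hbig
        omega
      rw [hk, hk1, mul_one]
      exact Nat.gcd_dvd_right _ _
    have h3 : p ^ γ ≠ 3 := by
      intro h3
      have hcP : Nat.card Q ≤ 24 := by
        rcases h with ⟨⟨e⟩⟩ | ⟨⟨e⟩⟩
        · rw [Nat.card_congr (eg.trans e).toEquiv]
          rw [h3] at hK2; omega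
        · rw [Nat.card_congr (eg.trans e).toEquiv, CfsgLib.SLCard.card_PGL, CfsgLib.SLCard.card_SL_two, hγ, h3]
          norm_num
      obtain ⟨L, -, ⟨eL⟩⟩ := exists_sub hres.le hZ
      haveI := hres.simple
      have hle : Nat.card (P ⧸ Subgroup.subgroupOf Zs P) ≤ 24 := by
        rw [← Nat.card_congr eL.toEquiv]
        exact (Nat.le_of_dvd Nat.card_pos (Subgroup.card_subgroup_dvd_card L)).trans hcP
      rcases Cfsg.Agent.S0496.result hres.nonabelian (by omega) with e | e | e | e | e | e <;> omega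
    refine Or.inl ⟨K, hKf, hKt, γ, hγ, hdiv, h3, ?_⟩
    rcases h with ⟨⟨e⟩⟩ | ⟨⟨e⟩⟩
    · exact Or.inl ⟨eg.trans e⟩
    · exact Or.inr ⟨eg.trans e⟩

end CfsgLib.ResThree
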