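import Cfsg.Agent.Lib.MaxSub.ResThree.Sub.Lift
import Cfsg.Agent.Lib.MaxSub.ResThree.Sub.Descent
import Cfsg.Agent.Lib.MaxSub.CharSimple
import Cfsg.Agent.Lib.Elementary

/-!
A subgroup of `PSL₃` without abelian normal subgroups has a simple core.
-/

set_option autoImplicit false
set_option linter.unusedSectionVars false
set_option linter.style.haveILetI false

namespace CfsgLib.ResThree

open Matrix
open scoped commutatorElement

set_option maxHeartbeats 1000000

variable {F : Type*} [Field F]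

local notation "G3" => Matrix.GeneralLinearGroup (Fin 3) F
local notation "SL3" => Matrix.SpecialLinearGroup (Fin 3) F
local notation "PSL3" => Matrix.ProjectiveSpecialLinearGroup (Fin 3) F
local notation "Zs" => Cfsg.Geo.scalars (Fin 3) F

/-- No abelian normal subgroup of prime exponent. -/
def NoElemNormal (Q : Type*) [Group Q] : Prop :=
  ∀ N : Subgroup Q, N.Normal → IsMulCommutative N → (∃ r : ℕ, r.Prime ∧ ∀ x ∈ N, x ^ r = 1) → N = ⊥

theorem NoElemNormal.of_equiv {Q R : Type*} [Group Q] [Group R] (h : NoElemNormal Q) (e : R ≃* Q) :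
    NoElemNormal R := by
  intro N hN hc hr
  haveI := hc
  obtain ⟨r, hr, hx⟩ := hr
  refine (Subgroup.map_eq_bot_iff_of_injective N e.injective).1 (h (N.map e.toMonoidHom) (hN.map _ e.surjective) ?_ ⟨r, hr, ?_⟩)
  · refine ⟨⟨?_⟩⟩
    rintro ⟨_, a, ha, rfl⟩ ⟨_, b, hb, rfl⟩
    apply Subtype.ext
    show e a * e b = e b * e a
    rw [← map_mul, ← map_mul, show a * b = b * a from congrArg Subtype.val (mul_comm' (⟨a, ha⟩ : N) ⟨b, hb⟩)]
  · rintro _ ⟨a, ha, rfl⟩
    show e a ^ r = 1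
    rw [← map_pow, hx a ha, map_one]

/-- The full preimage of a projective group together with all scalars. -/
theorem exists_preimage (H : Subgroup (Matrix.ProjectiveSpecialLinearGroup (Fin 3) F)) :
    ∃ Ht : Subgroup G3, Zs ≤ Ht ∧ (∀ h ∈ Ht, ∃ c : F, h.1.det = c ^ 3) ∧
      Nonempty (Ht ⧸ Subgroup.subgroupOf Zs Ht ≃* H) := by
  let π : SL3 →* PSL3 := QuotientGroup.mk' _
  set L := H.comap π with hL
  set Ht : Subgroup G3 := L.map Matrix.SpecialLinearGroup.toGL ⊔ Zs with hHt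
  refine ⟨Ht, le_sup_right, fun h hh => ?_, ?_⟩
  · obtain ⟨a, ⟨x, -, rfl⟩, z, hz, rfl⟩ := Subgroup.mem_sup_of_normal_right.1 hh
    obtain ⟨c, hc⟩ := (Cfsg.Geo.mem_scalars_iff _).1 hz
    refine ⟨c, ?_⟩
    rw [Units.val_mul, Matrix.det_mul, hc, Matrix.det_smul, Matrix.det_one, mul_one, Fintype.card_fin,
      show (Matrix.SpecialLinearGroup.toGL x).1.det = 1 from x.2, one_mul]
  · let θ : L →* Ht ⧸ Subgroup.subgroupOf Zs Ht :=
      (QuotientGroup.mk' _).comp ((Matrix.SpecialLinearGroup.toGL.comp L.subtype).codRestrict Ht fun x =>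
        Subgroup.mem_sup_left ⟨x.1, x.2, rfl⟩)
    let χ : L →* H := (π.comp L.subtype).codRestrict H fun x => x.2
    have hθs : Function.Surjective θ := fun a => by
      obtain ⟨⟨g, hg⟩, rfl⟩ := QuotientGroup.mk'_surjective _ a
      obtain ⟨y, ⟨x, hx, rfl⟩, z, hz, rfl⟩ := Subgroup.mem_sup_of_normal_right.1 hg
      exact ⟨⟨x, hx⟩, (QuotientGroup.eq (a := (⟨_, Subgroup.mem_sup_left ⟨x, hx, rfl⟩⟩ : Ht))
        (b := (⟨_, hg⟩ : Ht))).2 (by
          show (Matrix.SpecialLinearGroup.toGL x)⁻¹ * (Matrix.SpecialLinearGroup.toGL x * z) ∈ Zs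
          rw [inv_mul_cancel_left]; exact hz)⟩
    have hχs : Function.Surjective χ := fun a => by
      obtain ⟨x, hx⟩ := QuotientGroup.mk'_surjective _ a.1
      exact ⟨⟨x, show π x ∈ H by rw [show π x = a.1 from hx]; exact a.2⟩, Subtype.ext hx⟩
    have hker : θ.ker = χ.ker := by
      ext x
      rw [MonoidHom.mem_ker, MonoidHom.mem_ker]
      refine (QuotientGroup.eq_one_iff _).trans (Iff.trans ?_ (Subtype.ext_iff (a1 := χ x) (a2 := 1)).symm)
      refine Iff.trans ?_ (QuotientGroup.eq_one_iff (N := Subgroup.center SL3) x.1).symm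
      show Matrix.SpecialLinearGroup.toGL x.1 ∈ Zs ↔ x.1 ∈ Subgroup.center SL3
      rw [Cfsg.Geo.mem_scalars_iff, Matrix.SpecialLinearGroup.mem_center_iff]
      constructor
      · rintro ⟨c, hc⟩
        have hd : (c : F) ^ 3 = 1 := by
          have := congrArg Matrix.det hc
          rw [Matrix.det_smul, Matrix.det_one, mul_one, Fintype.card_fin] at this
          rw [← this]; exact x.1.2
        exact ⟨c, by rw [Fintype.card_fin]; exact hd, by
          rw [Matrix.scalar_apply, ← Matrix.smul_one_eq_diagonal]; exact hc.symm⟩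
      · rintro ⟨r, hr, hrx⟩
        rw [Fintype.card_fin] at hr
        refine ⟨Units.mk0 r (fun e => by rw [e] at hr; simp at hr), ?_⟩
        rw [Units.val_mk0, Matrix.smul_one_eq_diagonal, ← Matrix.scalar_apply]; exact hrx.symm
    exact ⟨((QuotientGroup.quotientKerEquivOfSurjective θ hθs).symm.trans
      (QuotientGroup.quotientMulEquivOfEq hker)).trans (QuotientGroup.quotientKerEquivOfSurjective χ hχs)⟩

variable [Finite F]

/-- Two lifts that commute modulo scalars cannot both be cores. -/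
theorem lifts_commute_false {T₀ T₁ : Subgroup (Matrix.GeneralLinearGroup (Fin 3) F)} (h2 : (2 : F) ≠ 0) (h0 : QS T₀)
    (h1 : QS T₁) (hc : ∀ x ∈ T₁, ∀ y ∈ T₀, x * y * x⁻¹ * y⁻¹ ∈ Zs) : False := by
  have hP0 := h0.core h2
  have hsc : ∀ x ∈ T₁, x ∈ Zs := by
    intro x hx
    obtain ⟨c, hc'⟩ := scalar_of_commute hP0.envelope_top (M := x.1)
      (fun y hy => (congrArg Units.val (comm_of_mod_scalar hP0.perfect (hc x hx) y hy)).symm)
    have hc0 : c ≠ 0 := by
      rintro rfl
      rw [zero_smul] at hc'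
      exact x.ne_zero hc'
    exact (Cfsg.Geo.mem_scalars_iff _).2 ⟨Units.mk0 c hc0, hc'⟩
  exact h1.not_comm fun a b => Subtype.ext (scalar_comm_all (hsc a.1 a.2) b.1)

/-- The lift of a simple subgroup of the quotient. -/
theorem lift_of_range {Ht : Subgroup (Matrix.GeneralLinearGroup (Fin 3) F)} {Q : Type*} [Group Q] (π : Ht →* Q)
    (hπs : Function.Surjective π) (hπ1 : ∀ x : Ht, π x = 1 ↔ (x : G3) ∈ Zs) {S : Type*} [Group S] [IsSimpleGroup S]
    (hSna : ¬ IsMulCommutative S) (f : S →* Q) (hf : Function.Injective f) :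
    ∃ P : Subgroup G3, P ≤ Ht ∧ QS P ∧ (∀ x : Ht, π x ∈ f.range → (x : G3) ∈ P ⊔ Zs) ∧
      (∀ x : Ht, (x : G3) ∈ P → π x ∈ f.range) := by
  let L : Subgroup G3 := (f.range.comap π).map Ht.subtype
  have hLle : L ≤ Ht := Subgroup.map_subtype_le _
  let ψ : L →* S := (MonoidHom.ofInjective hf).symm.toMonoidHom.comp
    ((π.comp (Subgroup.inclusion hLle)).codRestrict f.range fun x => by
      obtain ⟨y, hy, hyx⟩ := x.2
      show π (Subgroup.inclusion hLle x) ∈ f.range
      rw [show Subgroup.inclusion hLle x = y from Subtype.ext hyx.symm]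
      exact hy)
  have hψ : Function.Surjective ψ := fun s => by
    obtain ⟨y, hy⟩ := hπs (f s)
    refine ⟨⟨y.1, y, show π y ∈ f.range from ⟨s, hy.symm⟩, rfl⟩, ?_⟩
    refine (MonoidHom.ofInjective hf).injective (Subtype.ext ?_)
    simp only [ψ, MonoidHom.comp_apply, MulEquiv.coe_toMonoidHom, MulEquiv.apply_symm_apply]
    exact hy
  have hker : ∀ x : L, ψ x = 1 ↔ (x : G3) ∈ Zs := fun x => by
    simp only [ψ, MonoidHom.comp_apply, MulEquiv.coe_toMonoidHom, EmbeddingLike.map_eq_one_iff]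
    exact Subtype.ext_iff.trans (hπ1 (Subgroup.inclusion hLle x))
  obtain ⟨P, -, hle, hqs, hsup, -⟩ := qs_of_lift hSna ψ hψ hker
  exact ⟨P, hle.trans hLle, hqs, fun x hx => hsup ⟨x, hx, rfl⟩, fun x hx => by
    obtain ⟨y, hy, hyx⟩ := hle hx
    rw [show x = y from Subtype.ext hyx.symm]
    exact hy⟩


/-- The simple core of a group without abelian normal subgroups modulo scalars. -/
theorem exists_over {Ht : Subgroup (Matrix.GeneralLinearGroup (Fin 3) F)} (h2 : (2 : F) ≠ 0) (hZ : Zs ≤ Ht)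
    (hcube : ∀ h ∈ Ht, ∃ c : F, h.1.det = c ^ 3)
    (hne : Nontrivial (Ht ⧸ Subgroup.subgroupOf Zs Ht)) (hN : NoElemNormal (Ht ⧸ Subgroup.subgroupOf Zs Ht)) :
    ∃ P, Over Ht P := by
  classical
  set Q := Ht ⧸ Subgroup.subgroupOf Zs Ht
  set π : Ht →* Q := QuotientGroup.mk' _
  have hπ1 : ∀ x : Ht, π x = 1 ↔ (x : G3) ∈ Zs := fun x => QuotientGroup.eq_one_iff x
  obtain ⟨N, hNn, -, hN1, hmin⟩ := CfsgLib.exists_minimal_normal (N := (⊤ : Subgroup Q)) top_ne_bot
  haveI := hNn
  haveI : Nontrivial N := N.nontrivial_iff_ne_bot.mpr hN1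
  have hchar : ∀ K : Subgroup N, K.Characteristic → K = ⊥ ∨ K = ⊤ := fun K hK => by
    haveI := hK
    rcases hmin (K.map N.subtype) inferInstance (Subgroup.map_subtype_le K) with e | e
    · exact Or.inl ((Subgroup.map_eq_bot_iff_of_injective _ N.subtype_injective).1 e)
    · refine Or.inr (Subgroup.map_injective N.subtype_injective ?_)
      rw [e, ← MonoidHom.range_eq_map, Subgroup.range_subtype]
  obtain ⟨S, _, _, n, hn, ⟨eS⟩⟩ := CfsgLib.MaxSub.char_simple_to_power hchar
  have hSna : ¬ IsMulCommutative S := by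
    intro hS
    haveI := hS
    have hcomm : ∀ a b : N, a * b = b * a := fun a b => eS.injective (by
      rw [map_mul, map_mul]; funext i; exact mul_comm' _ _)
    obtain ⟨r, hr, hrd⟩ := Nat.exists_prime_and_dvd (Finite.one_lt_card (α := N)).ne'
    haveI := Fact.mk hr
    let K : Subgroup N :=
      { carrier := {x | x ^ r = 1}
        one_mem' := one_pow r
        mul_mem' := fun {a b} (ha : a ^ r = 1) (hb : b ^ r = 1) => by
          show (a * b) ^ r = 1
          rw [(show Commute a b from hcomm a b).mul_pow, ha, hb, one_mul]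
        inv_mem' := fun {a} (ha : a ^ r = 1) => by show a⁻¹ ^ r = 1; rw [inv_pow, ha, inv_one] }
    obtain ⟨x, hx⟩ := exists_prime_orderOf_dvd_card' (G := N) r hrd
    have hK : K = ⊤ := (hchar K (Subgroup.characteristic_iff_le_comap.2 fun φ a (ha : a ^ r = 1) => by
      show φ a ^ r = 1
      rw [← map_pow, ha, map_one])).resolve_left fun e => by
        have hxK : x ∈ K := show x ^ r = 1 by rw [← hx, pow_orderOf_eq_one]
        rw [e, Subgroup.mem_bot] at hxK
        rw [hxK, orderOf_one] at hx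
        exact hr.one_lt.ne hx
    refine hN1 (hN N hNn ⟨⟨fun a b => hcomm a b⟩⟩ ⟨r, hr, fun a ha => ?_⟩)
    exact congrArg Subtype.val (show (⟨a, ha⟩ : N) ^ r = 1 from (hK ▸ Subgroup.mem_top _ : (⟨a, ha⟩ : N) ∈ K))
  have lift := fun i : Fin n => lift_of_range π (QuotientGroup.mk'_surjective _) hπ1 hSna
    ((N.subtype.comp eS.symm.toMonoidHom).comp (MonoidHom.mulSingle (fun _ : Fin n => S) i))
    (N.subtype_injective.comp (eS.symm.injective.comp (fun a b e => Pi.mulSingle_injective i e)))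
  choose T hTle hTqs hTin hTout using lift
  -- there is only one factor
  have hn1 : n = 1 := by
    by_contra h1
    let i₀ : Fin n := ⟨0, by omega⟩
    let i₁ : Fin n := ⟨1, by omega⟩
    have hne01 : i₀ ≠ i₁ := by simp [i₀, i₁, Fin.ext_iff]
    refine lifts_commute_false h2 (hTqs i₀) (hTqs i₁) fun x hx y hy => ?_
    obtain ⟨a, ha⟩ := hTout i₁ ⟨x, hTle _ hx⟩ hx
    obtain ⟨b, hb⟩ := hTout i₀ ⟨y, hTle _ hy⟩ hy
    have hprod : π (⟨x, hTle _ hx⟩ * ⟨y, hTle _ hy⟩ * ⟨x, hTle _ hx⟩⁻¹ * ⟨y, hTle _ hy⟩⁻¹) = 1 := by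
      rw [map_mul, map_mul, map_mul, map_inv, map_inv, ← ha, ← hb]
      have hab : (MonoidHom.mulSingle (fun _ : Fin n => S) i₁ a) * (MonoidHom.mulSingle (fun _ : Fin n => S) i₀ b) =
          (MonoidHom.mulSingle (fun _ : Fin n => S) i₀ b) * (MonoidHom.mulSingle (fun _ : Fin n => S) i₁ a) := by
        funext j
        rcases eq_or_ne j i₀ with rfl | hj
        · simp [hne01, MonoidHom.mulSingle_apply]
        · simp [hj, MonoidHom.mulSingle_apply]
      have hab' := congrArg (fun z => (N.subtype.comp eS.symm.toMonoidHom) z) hab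
      simp only [map_mul] at hab'
      simp only [MonoidHom.comp_apply] at hab' ⊢
      rw [hab', mul_inv_cancel_right, mul_inv_cancel]
    exact (hπ1 _).1 hprod
  subst hn1
  -- the core
  refine ⟨T 0, hZ, hTle 0, fun h hh x hx => ?_, (hTqs 0).core h2, hcube⟩
  have hrange : (MonoidHom.comp (N.subtype.comp eS.symm.toMonoidHom) (MonoidHom.mulSingle (fun _ : Fin 1 => S) 0)).range = N := by
    apply le_antisymm
    · rintro _ ⟨s, rfl⟩; exact (eS.symm _).2
    · intro a ha
      refine ⟨eS ⟨a, ha⟩ 0, ?_⟩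
      have : Pi.mulSingle (M := fun _ : Fin 1 => S) 0 (eS ⟨a, ha⟩ 0) = eS ⟨a, ha⟩ := by
        funext i; rw [Subsingleton.elim i 0, Pi.mulSingle_eq_same]
      simp [MonoidHom.mulSingle_apply, this]
  -- the core is the derived group of the preimage
  have hTeq : ∀ y : Ht, π y ∈ N → ∀ w : Ht, π w ∈ N → ⁅(y : G3), (w : G3)⁆ ∈ T 0 := by
    intro y hy w hw
    obtain ⟨a, ha, z, hz, e₁⟩ := Subgroup.mem_sup_of_normal_right.1 (hTin 0 y (hrange.symm ▸ hy))
    obtain ⟨b, hb, z', hz', e₂⟩ := Subgroup.mem_sup_of_normal_right.1 (hTin 0 w (hrange.symm ▸ hw))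
    rw [← e₁, ← e₂, commutator_scalar_mul hz hz', commutatorElement_def]
    exact (T 0).mul_mem ((T 0).mul_mem ((T 0).mul_mem ha hb) ((T 0).inv_mem ha)) ((T 0).inv_mem hb)
  have hcl : T 0 ≤ (T 0).comap (MulAut.conj h).toMonoidHom := by
    conv_lhs => rw [← (hTqs 0).perfect]
    refine Subgroup.commutator_le.2 fun a ha b hb => ?_
    show h * ⁅a, b⁆ * h⁻¹ ∈ T 0
    have e : h * ⁅a, b⁆ * h⁻¹ = ⁅h * a * h⁻¹, h * b * h⁻¹⁆ := by
      rw [commutatorElement_def, commutatorElement_def]; group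
    rw [e]
    have hin : ∀ a, ∀ ha : a ∈ T 0, π (⟨h, hh⟩ * ⟨a, hTle 0 ha⟩ * ⟨h, hh⟩⁻¹) ∈ N := by
      intro a ha
      have hm : π ⟨a, hTle 0 ha⟩ ∈ N := hrange ▸ hTout 0 ⟨a, hTle 0 ha⟩ ha
      rw [map_mul, map_mul, map_inv]
      exact hNn.conj_mem _ hm _
    have := hTeq _ (hin a ha) _ (hin b hb)
    simp only [Subgroup.coe_mul, InvMemClass.coe_inv] at this
    exact this
  exact hcl hx

end CfsgLib.ResThree
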