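import Cfsg.Agent.Lib.MaxSub.ResThree.Setup

/-!
In odd characteristic a perfect subgroup of `GL₃` that is simple modulo scalars is absolutely irreducible.
-/

set_option autoImplicit false
set_option linter.unusedSectionVars false
set_option linter.style.haveILetI false

namespace CfsgLib.ResThree

open Matrix
open scoped commutatorElement

variable {F : Type*} [Field F]

local notation "G3" => Matrix.GeneralLinearGroup (Fin 3) F
local notation "M3" => Matrix (Fin 3) (Fin 3) F
local notation "V" => Fin 3 → F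
local notation "Zs" => Cfsg.Geo.scalars (Fin 3) F

/-- Perfect and simple non-abelian modulo scalars. -/
structure QS (P : Subgroup (Matrix.GeneralLinearGroup (Fin 3) F)) : Prop where
  perfect : ⁅P, P⁆ = P
  simple : IsSimpleGroup (P ⧸ (Cfsg.Geo.scalars (Fin 3) F).subgroupOf P)
  nonabelian : ¬ IsMulCommutative (P ⧸ (Cfsg.Geo.scalars (Fin 3) F).subgroupOf P)

variable {P : Subgroup (Matrix.GeneralLinearGroup (Fin 3) F)}

theorem QS.isPerfect (hP : QS P) : Group.IsPerfect P :=
  ⟨Subgroup.map_injective P.subtype_injective (by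
    rw [Subgroup.map_subtype_commutator, ← MonoidHom.range_eq_map, Subgroup.range_subtype]; exact hP.perfect)⟩

/-- A perfect subgroup commuting with everything modulo scalars commutes on the nose. -/
theorem comm_of_mod_scalar (hP : ⁅P, P⁆ = P) {t : G3}
    (h : ∀ x ∈ P, t * x * t⁻¹ * x⁻¹ ∈ Zs) : ∀ x ∈ P, t * x = x * t := by
  intro x hx
  have key : ∀ a ∈ P, ∀ b ∈ P, t * ⁅a, b⁆ * t⁻¹ = ⁅a, b⁆ := by
    intro a ha b hb
    obtain ⟨c, hc⟩ := (Cfsg.Geo.mem_scalars_iff _).1 (h a ha)
    obtain ⟨d, hd⟩ := (Cfsg.Geo.mem_scalars_iff _).1 (h b hb)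
    set z := t * a * t⁻¹ * a⁻¹ with hz
    set w := t * b * t⁻¹ * b⁻¹ with hw
    have hzc : ∀ y : G3, z * y = y * z := fun y => Units.ext (by
      show z.1 * y.1 = y.1 * z.1
      rw [hc, Matrix.mul_smul, Matrix.smul_mul, one_mul, mul_one])
    have hwc : ∀ y : G3, w * y = y * w := fun y => Units.ext (by
      show w.1 * y.1 = y.1 * w.1
      rw [hd, Matrix.mul_smul, Matrix.smul_mul, one_mul, mul_one])
    have e1 : t * a * t⁻¹ = z * a := by rw [hz]; group
    have e2 : t * b * t⁻¹ = w * b := by rw [hw]; group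
    calc t * ⁅a, b⁆ * t⁻¹ = ⁅t * a * t⁻¹, t * b * t⁻¹⁆ := by rw [commutatorElement_def, commutatorElement_def]; group
      _ = ⁅z * a, w * b⁆ := by rw [e1, e2]
      _ = ⁅a, b⁆ := by
        rw [commutatorElement_def, commutatorElement_def, _root_.mul_inv_rev, _root_.mul_inv_rev]
        have hz' : ∀ y : G3, z⁻¹ * y = y * z⁻¹ := fun y => (Commute.inv_left (hzc y)).eq
        calc z * a * (w * b) * (a⁻¹ * z⁻¹) * (b⁻¹ * w⁻¹)
            = z * (a * w) * b * a⁻¹ * (z⁻¹ * b⁻¹) * w⁻¹ := by group
          _ = z * (w * a) * b * a⁻¹ * (b⁻¹ * z⁻¹) * w⁻¹ := by rw [hwc a, hz' b⁻¹]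
          _ = (z * w) * (a * b * a⁻¹ * b⁻¹) * z⁻¹ * w⁻¹ := by group
          _ = (a * b * a⁻¹ * b⁻¹) * (z * w) * z⁻¹ * w⁻¹ := by
            rw [mul_assoc z w, hwc, ← mul_assoc z, hzc, mul_assoc _ z w]
          _ = a * b * a⁻¹ * b⁻¹ := by rw [hzc w]; group
  have hcl : x ∈ Subgroup.centralizer {t} := by
    refine Subgroup.commutator_le.2 (fun a ha b hb => ?_) (hP.symm ▸ hx : x ∈ ⁅P, P⁆)
    exact Subgroup.mem_centralizer_singleton_iff.2 (mul_inv_eq_iff_eq_mul.1 (key a ha b hb)).symm
  exact (Subgroup.mem_centralizer_singleton_iff.1 hcl).symm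

theorem QS.normal_cases (hP : QS P) (N : Subgroup P) [N.Normal] :
    N ≤ Subgroup.subgroupOf Zs P ∨ N = ⊤ := by
  haveI := hP.simple
  haveI := hP.isPerfect
  rcases (Subgroup.Normal.map (inferInstance : N.Normal) (QuotientGroup.mk' (Subgroup.subgroupOf Zs P))
    (QuotientGroup.mk'_surjective _)).eq_bot_or_eq_top with h | h
  · left
    rwa [← QuotientGroup.ker_mk' (Subgroup.subgroupOf Zs P), ← Subgroup.map_eq_bot_iff]
  · right
    have hsup : N ⊔ Subgroup.subgroupOf Zs P = ⊤ := by
      have := congrArg (Subgroup.comap (QuotientGroup.mk' (Subgroup.subgroupOf Zs P))) h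
      rwa [Subgroup.comap_map_eq, QuotientGroup.ker_mk', Subgroup.comap_top] at this
    have hz : ∀ x : P, ∃ z ∈ Subgroup.subgroupOf Zs P, QuotientGroup.mk' N x = QuotientGroup.mk' N z := fun x => by
      have hx : x ∈ N ⊔ Subgroup.subgroupOf Zs P := by rw [hsup]; exact Subgroup.mem_top x
      obtain ⟨n, hn, z, hz, rfl⟩ := Subgroup.mem_sup_of_normal_left.1 hx
      exact ⟨z, hz, by rw [map_mul, show QuotientGroup.mk' N n = 1 from (QuotientGroup.eq_one_iff n).2 hn, one_mul]⟩
    have hcomm : ∀ a b : P ⧸ N, a * b = b * a := by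
      intro a b
      obtain ⟨x, hx⟩ := QuotientGroup.mk'_surjective N a
      obtain ⟨y, hy⟩ := QuotientGroup.mk'_surjective N b
      obtain ⟨u, hu, e⟩ := hz x
      rw [← hx, ← hy, e, ← map_mul, ← map_mul, Subgroup.mem_center_iff.1 (scalar_mem_center P hu) y]
    haveI : IsMulCommutative (P ⧸ N) := ⟨⟨hcomm⟩⟩
    haveI : Group.IsPerfect (P ⧸ N) :=
      Group.IsPerfect.ofSurjective (f := QuotientGroup.mk' N) (QuotientGroup.mk'_surjective N)
    have : Subsingleton (P ⧸ N) := Group.IsPerfect.subsingleton_of_isMulCommutative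
    exact QuotientGroup.subgroup_eq_top_of_subsingleton N this

theorem QS.not_comm (hP : QS P) : ¬ ∀ a b : P, a * b = b * a := fun h =>
  hP.nonabelian ⟨⟨fun a b => by
    obtain ⟨x, rfl⟩ := QuotientGroup.mk'_surjective _ a
    obtain ⟨y, rfl⟩ := QuotientGroup.mk'_surjective _ b
    rw [← map_mul, ← map_mul, h]⟩⟩

variable [Finite F]

/-- An involution of `P` is not central. -/
theorem QS.exists_involution (hP : QS P) (h2 : (2 : F) ≠ 0) :
    ∃ t : P, t * t = 1 ∧ t ∉ Subgroup.subgroupOf Zs P ∧ t ∉ Subgroup.center P := by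
  haveI := hP.isPerfect
  haveI : Fact (Nat.Prime 2) := ⟨Nat.prime_two⟩
  have h2P : 2 ∣ Nat.card P := by
    by_contra h
    haveI := CfsgLib.GW.subsingleton_of_odd (X := P) (Nat.odd_iff.2 (by omega))
    exact hP.not_comm fun a b => Subsingleton.elim _ _
  obtain ⟨t, ht⟩ := exists_prime_orderOf_dvd_card' 2 h2P
  have ht2 : t * t = 1 := by rw [← pow_two, ← ht, pow_orderOf_eq_one]
  have htZ : t ∉ Subgroup.subgroupOf Zs P := by
    intro hz
    obtain ⟨c, hc⟩ := (Cfsg.Geo.mem_scalars_iff t.1).1 hz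
    have hd := det_of_perfect hP.perfect t.2
    have h := congrArg (fun x : P => x.1.1 0 0) ht2
    simp [hc] at h hd
    have hc1 : (c : F) = 1 := by linear_combination hd - (c : F) * h
    have : t = 1 := Subtype.ext (Units.ext (by rw [hc, hc1, one_smul]; rfl))
    rw [this, orderOf_one] at ht
    omega
  refine ⟨t, ht2, htZ, fun hc => ?_⟩
  rcases hP.normal_cases (Subgroup.center P) with h | h
  · exact htZ (h hc)
  · exact hP.not_comm fun a b => Subgroup.mem_center_iff.1 (h ▸ Subgroup.mem_top b) a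

/-- A row and column pair that is fixed up to scalars. -/
theorem QS.no_fixed_line (hP : QS P) (h2 : (2 : F) ≠ 0) {Γ : Type*} [Group Γ] (e : Γ ≃* P) (ρ : Γ →* G3)
    (hinj : Function.Injective ρ) (hdet : ∀ x, (ρ x).1.det = 1) {w : V} (hw : w ≠ 0)
    (hfix : ∀ x, ∃ c : F, (ρ x).1 *ᵥ w = c • w) : False := by
  classical
  haveI := hP.isPerfect
  -- every member fixes `w`
  choose χ hχ using hfix
  obtain ⟨i, hi⟩ := Function.ne_iff.1 hw
  have hi' : w i ≠ 0 := hi
  have hmul : ∀ x y, χ (x * y) = χ x * χ y := fun x y => by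
    have h := hχ (x * y)
    rw [map_mul, Units.val_mul, ← Matrix.mulVec_mulVec, hχ y, Matrix.mulVec_smul, hχ x, smul_smul] at h
    have := congrFun h i
    simp only [Pi.smul_apply, smul_eq_mul] at this
    exact (mul_right_cancel₀ hi' (by linear_combination -this))
  have h1 : χ 1 = 1 := by
    have h := congrFun (hχ 1) i
    simp at h
    exact mul_right_cancel₀ hi' (by linear_combination -h)
  let χm : P →* F := (MonoidHom.mk ⟨χ, h1⟩ hmul).comp e.symm.toMonoidHom
  have hfx : ∀ x, (ρ x).1 *ᵥ w = w := by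
    intro x
    have hker : commutator P ≤ χm.toHomUnits.ker := Abelianization.commutator_subset_ker _
    rw [Group.IsPerfect.commutator_eq_top] at hker
    have := congrArg Units.val (MonoidHom.mem_ker.1 (hker (Subgroup.mem_top (e x))))
    simp [χm] at this
    rw [hχ x, this, one_smul]
  obtain ⟨t, ht2, -, htc⟩ := hP.exists_involution h2
  set T := (ρ (e.symm t)).1 with hT
  have hTT : T * T = 1 := by
    rw [hT, ← Units.val_mul, ← map_mul, ← map_mul, ht2, map_one, map_one, Units.val_one]
  -- `T + 1` has its image in the line of `w`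
  have himg : ∀ v, ∃ c : F, (T + 1) *ᵥ v = c • w := by
    have htne : T ≠ 1 := fun h => htc (by
      have : e.symm t = 1 := hinj (by rw [map_one]; exact Units.ext h)
      rw [EmbeddingLike.map_eq_one_iff] at this
      rw [this]; exact one_mem _)
    obtain ⟨u, hu⟩ : ∃ u, (T - 1) *ᵥ u ≠ 0 := by
      by_contra h
      push Not at h
      exact htne (sub_eq_zero.1 (Matrix.toLin'.injective (LinearMap.ext fun v => by
        rw [Matrix.toLin'_apply, h v, map_zero, LinearMap.zero_apply])))
    have hle : LinearMap.range (T + 1).mulVecLin ≤ LinearMap.ker (T - 1).mulVecLin := by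
      rintro _ ⟨v, rfl⟩
      rw [LinearMap.mem_ker, Matrix.mulVecLin_apply, Matrix.mulVecLin_apply, Matrix.mulVec_mulVec, sub_mul, one_mul,
        mul_add, mul_one, hTT, add_comm 1 T, sub_self, Matrix.zero_mulVec]
    have hwr : w ∈ LinearMap.range (T + 1).mulVecLin := ⟨(2 : F)⁻¹ • w, by
      simp [Matrix.add_mulVec, Matrix.mulVec_smul, hT, hfx]
      rw [← add_smul, ← two_mul, mul_inv_cancel₀ h2, one_smul]⟩
    have hr : Module.finrank F (LinearMap.range (T + 1).mulVecLin) ≤ 1 := by
      by_contra hlt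
      push Not at hlt
      have hk : Module.finrank F (LinearMap.range (T - 1).mulVecLin) ≤ 1 := by
        have := (T - 1).mulVecLin.finrank_range_add_finrank_ker
        rw [Module.finrank_pi, Fintype.card_fin] at this
        have := Submodule.finrank_mono hle
        omega
      have hdet1 : T.det = 1 := hdet _
      -- the minus one eigenspace is a line, so the determinant is minus one
      obtain ⟨a, ha⟩ : ∃ a, a = (T - 1) *ᵥ u := ⟨_, rfl⟩
      have hspan : LinearMap.range (T - 1).mulVecLin = Submodule.span F {a} := by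
        refine (Submodule.eq_of_le_of_finrank_le ?_ ?_).symm
        · rw [Submodule.span_le, Set.singleton_subset_iff, ha]; exact ⟨u, rfl⟩
        · rw [finrank_span_singleton (ha ▸ hu)]; exact hk
      obtain ⟨r, hr⟩ : ∃ r : Fin 3 → F, T = 1 + Matrix.vecMulVec a r := by
        choose r hr using fun j => Submodule.mem_span_singleton.1
          (hspan ▸ LinearMap.mem_range_self (T - 1).mulVecLin (Pi.single j 1))
        refine ⟨r, ?_⟩
        ext k j
        have h := congrFun (hr j) k
        simp only [Matrix.mulVecLin_apply, Matrix.mulVec_single_one, Matrix.col_apply, Matrix.sub_apply,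
          Pi.smul_apply, smul_eq_mul] at h
        rw [Matrix.add_apply, Matrix.vecMulVec_apply]
        linear_combination -h
      have hra : r ⬝ᵥ a = -2 := by
        have hTa : T *ᵥ a = -a := by
          rw [ha, Matrix.mulVec_mulVec, mul_sub, hTT, mul_one, ← neg_sub, Matrix.neg_mulVec]
        rw [hr, Matrix.add_mulVec, Matrix.one_mulVec, Matrix.vecMulVec_mulVec] at hTa
        obtain ⟨j, hj⟩ := Function.ne_iff.1 (ha ▸ hu)
        have hj' : a j ≠ 0 := hj
        have h := congrFun hTa j
        simp only [Pi.add_apply, Pi.smul_apply, MulOpposite.smul_eq_mul_unop, MulOpposite.unop_op, Pi.neg_apply] at h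
        exact mul_left_cancel₀ hj' (by linear_combination h)
      have h2' := (Matrix.det_one_add_replicateCol_mul_replicateRow (ι := Unit) a r).symm
      rw [← Matrix.vecMulVec_eq, ← hr, hdet1, hra] at h2'
      exact h2 (by linear_combination -h2')
    intro v
    have hspan : LinearMap.range (T + 1).mulVecLin = Submodule.span F {w} :=
      (Submodule.eq_of_le_of_finrank_le (by rwa [Submodule.span_le, Set.singleton_subset_iff])
        (by rw [finrank_span_singleton hw]; exact hr)).symm
    obtain ⟨c, hc⟩ := Submodule.mem_span_singleton.1 (hspan ▸ LinearMap.mem_range_self (T + 1).mulVecLin v)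
    exact ⟨c, hc.symm⟩
  -- the elements acting trivially on the line and on the quotient
  let N : Subgroup P :=
    { carrier := {x | ∀ v, ∃ c : F, ((ρ (e.symm x)).1 - 1) *ᵥ v = c • w}
      one_mem' := fun v => ⟨0, by simp⟩
      mul_mem' := fun {x y} hx hy v => by
        obtain ⟨c, hc⟩ := hx ((ρ (e.symm y)).1 *ᵥ v)
        obtain ⟨d, hd⟩ := hy v
        refine ⟨c + d, ?_⟩
        rw [map_mul, map_mul, Units.val_mul, add_smul, ← hc, ← hd, Matrix.mulVec_mulVec, ← Matrix.add_mulVec]
        congr 1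
        rw [sub_mul, one_mul]; abel
      inv_mem' := fun {x} hx v => by
        obtain ⟨c, hc⟩ := hx (((ρ (e.symm x))⁻¹).1 *ᵥ v)
        refine ⟨-c, ?_⟩
        rw [map_inv, map_inv, neg_smul, ← hc, Matrix.mulVec_mulVec, sub_mul, Units.mul_inv, one_mul, ← Matrix.neg_mulVec,
          neg_sub] }
  haveI : N.Normal := ⟨fun x hx g v => by
    obtain ⟨c, hc⟩ := hx (((ρ (e.symm g))⁻¹).1 *ᵥ v)
    refine ⟨c, ?_⟩
    have hd : (ρ (e.symm g)).1 *ᵥ (((ρ (e.symm x)).1 - 1) *ᵥ (((ρ (e.symm g))⁻¹).1 *ᵥ v)) = c • w := by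
      rw [hc, Matrix.mulVec_smul, hfx]
    rw [Matrix.mulVec_mulVec, Matrix.mulVec_mulVec] at hd
    rw [← hd]
    congr 1
    simp only [map_mul, map_inv, Units.val_mul, mul_sub, sub_mul, mul_one, Units.mul_inv]⟩
  have hcomm : ∀ g : P, g * t * g⁻¹ * t ∈ N := by
    intro g v
    obtain ⟨c, hc⟩ := himg (((ρ (e.symm g))⁻¹).1 *ᵥ (T *ᵥ v))
    obtain ⟨d, hd⟩ := himg v
    refine ⟨c - d, ?_⟩
    have hc' : (ρ (e.symm g)).1 *ᵥ ((T + 1) *ᵥ (((ρ (e.symm g))⁻¹).1 *ᵥ (T *ᵥ v))) = c • w := by
      rw [hc, Matrix.mulVec_smul, hfx]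
    rw [sub_smul, ← hc', ← hd]
    simp only [Matrix.mulVec_mulVec]
    rw [← Matrix.sub_mulVec]
    congr 1
    simp only [map_mul, map_inv, Units.val_mul, ← hT, mul_add, add_mul, mul_one, one_mul, mul_assoc]
    rw [← mul_assoc (ρ (e.symm g)).1 ((ρ (e.symm g))⁻¹).1 T, Units.mul_inv, one_mul]
    abel
  rcases hP.normal_cases N with h | h
  · -- the commutator map into the scalars is trivial
    refine htc (Subgroup.mem_center_iff.2 fun g => Subtype.ext ?_)
    have hmod : ∀ x ∈ P, (t : G3) * x * (t : G3)⁻¹ * x⁻¹ ∈ Zs := fun x hx => by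
      have hz : (⟨x, hx⟩ * t * ⟨x, hx⟩⁻¹ * t : P).1 ∈ Zs := h (hcomm ⟨x, hx⟩)
      have ht' : (t : G3)⁻¹ = t := inv_eq_of_mul_eq_one_right (congrArg Subtype.val ht2)
      have e : (t : G3) * x * (t : G3)⁻¹ * x⁻¹ = (t : G3) * (x * t * x⁻¹ * t) * (t : G3)⁻¹ := by
        rw [show (t : G3) * (x * t * x⁻¹ * t) * (t : G3)⁻¹ = t * x * t * x⁻¹ * (t * (t : G3)⁻¹) by group,
          mul_inv_cancel, mul_one, ht']
      rw [e]
      exact (inferInstance : (Zs).Normal).conj_mem _ hz _
    exact (comm_of_mod_scalar hP.perfect hmod g.1 g.2).symm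
  · -- every member is a transvection modulo the line
    have hsq : ((ρ (e.symm t)).1 - 1) *ᵥ w = 0 := by simp [Matrix.sub_mulVec, hfx]
    have hz : T - 1 = 0 := by
      have h0 : (T - 1) * (T - 1) = 0 := by
        refine Matrix.toLin'.injective (LinearMap.ext fun v => ?_)
        obtain ⟨c, hc⟩ := (h ▸ Subgroup.mem_top t : t ∈ N) v
        show Matrix.toLin' ((T - 1) * (T - 1)) v = Matrix.toLin' 0 v
        simp only [Matrix.toLin'_apply, Matrix.zero_mulVec, ← Matrix.mulVec_mulVec]
        rw [hT, hc, Matrix.mulVec_smul, hsq, smul_zero]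
      have e1 : (2 : F) • (T - 1) = 0 := by
        rw [show (T - 1) * (T - 1) = T * T - T - T + 1 by noncomm_ring, hTT] at h0
        rw [show (2 : F) • (T - 1) = -(1 - T - T + 1) by rw [two_smul]; abel, h0, neg_zero]
      exact (smul_eq_zero.1 e1).resolve_left h2
    refine htc (?_ : t ∈ Subgroup.center P)
    have : e.symm t = 1 := hinj (by rw [map_one]; exact Units.ext (sub_eq_zero.1 hz))
    rw [EmbeddingLike.map_eq_one_iff] at this
    rw [this]
    exact one_mem _

/-- Inverse transpose. -/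
def dualId (P : Subgroup (Matrix.GeneralLinearGroup (Fin 3) F)) : P →* G3 := dualRep (RingEquiv.refl F) P

theorem dualId_apply (g : P) : (dualId P g).1 = ((g.1⁻¹ : G3).1)ᵀ := rfl

theorem QS.irreducible (hP : QS P) (h2 : (2 : F) ≠ 0) : CfsgLib.Aschbacher.Irr P := by
  classical
  have hdet : ∀ g ∈ P, g.1.det = 1 := fun g hg => det_of_perfect hP.perfect hg
  refine CfsgLib.Aschbacher.irr_iff.2 fun W hW => ?_
  by_contra hne
  push Not at hne
  have hW3 := Submodule.finrank_lt hne.2
  rw [Module.finrank_pi, Fintype.card_fin] at hW3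
  have hW0 : 0 < Module.finrank F W := Nat.pos_of_ne_zero fun h => hne.1 (Submodule.finrank_eq_zero.1 h)
  rcases (show Module.finrank F W = 1 ∨ Module.finrank F W = 2 by omega) with h | h
  · obtain ⟨⟨w, hwW⟩, hw0, hw⟩ := finrank_eq_one_iff'.1 h
    refine hP.no_fixed_line h2 (MulEquiv.refl P) P.subtype P.subtype_injective (fun x => hdet _ x.2)
      (w := w) (fun e => hw0 (Subtype.ext e)) fun x => ?_
    obtain ⟨c, hc⟩ := hw ⟨x.1.1 *ᵥ w, hW x.1 x.2 w hwW⟩
    exact ⟨c, (congrArg Subtype.val hc).symm⟩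
  · -- the annihilator of a plane is a fixed line of the inverse transpose
    obtain ⟨φ, hφ, hφW⟩ : ∃ φ : V, φ ≠ 0 ∧ ∀ v ∈ W, φ ⬝ᵥ v = 0 := by
      obtain ⟨f, hf, hfW⟩ := Submodule.exists_dual_map_eq_bot_of_lt_top (p := W) (lt_top_iff_ne_top.2 hne.2)
        inferInstance
      refine ⟨fun i => f (Pi.single i 1), fun e => hf (LinearMap.pi_ext fun i x => ?_), fun v hv => ?_⟩
      · rw [show (Pi.single i x : V) = x • Pi.single i 1 by rw [← Pi.single_smul, smul_eq_mul, mul_one], map_smul,
          show f (Pi.single i 1) = 0 from congrFun e i, smul_zero, LinearMap.zero_apply]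
      · have h0 : f v = 0 := by
          have : f v ∈ W.map f := Submodule.mem_map_of_mem hv
          rw [hfW] at this
          exact this
        rw [← h0]
        conv_rhs => rw [show v = ∑ i, v i • Pi.single i (1 : F) by ext k; simp [Pi.single_apply]]
        simp [map_sum, dotProduct, mul_comm]
    have hinjd : Function.Injective (dualId P) := fun a b e => by
      have := congrArg (fun x : G3 => x.1ᵀ) e
      simp only [dualId_apply, Matrix.transpose_transpose] at this
      exact Subtype.ext (inv_injective (Units.ext this))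
    refine hP.no_fixed_line h2 (MulEquiv.refl P) (dualId P) hinjd (fun x => ?_) (w := φ) hφ fun x => ?_
    · rw [dualId_apply, Matrix.det_transpose, hdet _ (inv_mem x.2)]
    · -- a functional vanishing on `W` is a multiple of `φ`
      have hker : ∀ v ∈ W, ((dualId P x).1 *ᵥ φ) ⬝ᵥ v = 0 := fun v hv => by
        rw [dualId_apply, Matrix.mulVec_transpose, ← Matrix.dotProduct_mulVec]
        exact hφW _ (hW _ (inv_mem x.2) v hv)
      let Φ : (Fin 3 → F) →ₗ[F] Module.Dual F W :=
        { toFun := fun ψ => (dotProductBilin F F ψ).domRestrict W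
          map_add' := fun a b => LinearMap.ext fun v => by simp [add_dotProduct]
          map_smul' := fun c a => LinearMap.ext fun v => by simp [smul_dotProduct] }
      have hΦ : Function.Surjective Φ := by
        intro f
        obtain ⟨g, hg⟩ := LinearMap.exists_extend f
        refine ⟨fun i => g (Pi.single i 1), LinearMap.ext fun v => ?_⟩
        rw [← hg]
        show (fun i => g (Pi.single i 1)) ⬝ᵥ (v : V) = g v
        conv_rhs => rw [show (v : V) = ∑ i, (v : V) i • Pi.single i (1 : F) by ext k; simp [Pi.single_apply]]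
        simp [map_sum, dotProduct, mul_comm]
      have hk1 : Module.finrank F (LinearMap.ker Φ) = 1 := by
        have := Φ.finrank_range_add_finrank_ker
        rw [LinearMap.range_eq_top.2 hΦ, finrank_top, Subspace.dual_finrank_eq, h, Module.finrank_pi,
          Fintype.card_fin] at this
        omega
      have hφk : φ ∈ LinearMap.ker Φ := LinearMap.ext fun v => hφW v v.2
      obtain ⟨c, hc⟩ := exists_smul_eq_of_finrank_eq_one hk1
        (x := ⟨φ, hφk⟩) (fun e => hφ (congrArg Subtype.val e))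
        ⟨(dualId P x).1 *ᵥ φ, LinearMap.ext fun v => hker v v.2⟩
      exact ⟨c, (congrArg Subtype.val hc).symm⟩

theorem QS.absIrred (hP : QS P) (h2 : (2 : F) ≠ 0) :
    Cfsg.Geo.ActsAbsolutelyIrreducibly (Cfsg.Geo.matrixSet P) := by
  have hirr := hP.irreducible h2
  refine ⟨hirr, fun M hM => ?_⟩
  have hMc : M ∈ CfsgLib.Aschbacher.commutant P :=
    CfsgLib.Aschbacher.mem_commutant.2 fun a ha => (hM _ ⟨a, ha, rfl⟩).symm
  set K := CfsgLib.Aschbacher.commutant P with hK
  have hKf := CfsgLib.Aschbacher.commutant_isField hirr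
  have hd := CfsgLib.Aschbacher.fieldSubalgebra_dvd hKf
  rw [Fintype.card_fin] at hd
  rcases (Nat.dvd_prime Nat.prime_three).1 hd with h | h
  · obtain ⟨c, hc⟩ := Algebra.mem_bot.1 ((Subalgebra.eq_bot_of_finrank_one h) ▸ hMc :
      M ∈ (⊥ : Subalgebra F M3))
    exact ⟨c, by rw [← hc, Algebra.algebraMap_eq_smul_one]⟩
  · exfalso
    let v : V := Pi.single 0 1
    have hv : v ≠ 0 := fun e => by simpa [v] using congrFun e 0
    let f : K →ₗ[F] V :=
      { toFun := fun k => k.1 *ᵥ v
        map_add' := fun a b => Matrix.add_mulVec _ _ _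
        map_smul' := fun c a => Matrix.smul_mulVec _ _ _ }
    have hinj : Function.Injective f := by
      rw [← LinearMap.ker_eq_bot, eq_bot_iff]
      intro k hk
      rw [Submodule.mem_bot]
      by_contra hk0
      exact hv (CfsgLib.Aschbacher.commutant_injective hirr k.2 (fun e => hk0 (Subtype.ext e))
        (LinearMap.mem_ker.1 hk))
    have hsurj : Function.Surjective f :=
      (LinearMap.injective_iff_surjective_of_finrank_eq_finrank (by rw [h, Module.finrank_pi, Fintype.card_fin])).1 hinj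
    -- an element commuting with the field is in the field
    have hmem : ∀ g ∈ P, g.1 ∈ K := by
      intro g hg
      obtain ⟨k, hk⟩ := hsurj (g.1 *ᵥ v)
      have hall : ∀ u, g.1 *ᵥ u = k.1 *ᵥ u := by
        intro u
        obtain ⟨l, rfl⟩ := hsurj u
        show g.1 *ᵥ (l.1 *ᵥ v) = k.1 *ᵥ (l.1 *ᵥ v)
        rw [Matrix.mulVec_mulVec, CfsgLib.Aschbacher.mem_commutant.1 l.2 g hg, ← Matrix.mulVec_mulVec,
          show g.1 *ᵥ v = k.1 *ᵥ v from hk.symm, Matrix.mulVec_mulVec, Matrix.mulVec_mulVec,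
          hKf.comm l.1 l.2 k.1 k.2]
      rw [show g.1 = k.1 from Matrix.toLin'.injective (LinearMap.ext hall)]
      exact k.2
    exact hP.not_comm fun a b => Subtype.ext (Units.ext (hKf.comm _ (hmem _ a.2) _ (hmem _ b.2)))

theorem QS.core (hP : QS P) (h2 : (2 : F) ≠ 0) : Core P :=
  ⟨hP.perfect, hP.simple, hP.nonabelian, hP.absIrred h2⟩

end CfsgLib.ResThree
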