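import Cfsg.Agent.Lib.MaxSub.ResThree.Sub.Linear
import Cfsg.Agent.Lib.MaxSub.ResThree.Sub.QSimple
import Cfsg.Agent.Lib.MaxSub.ResThree.Tv.Main
import Cfsg.Agent.Lib.UnitSLElusive.Basic
import Cfsg.Agent.Lib.Homogeneous.SD.SLAut

/-!
A core with transvections fixing a unitary form.
-/

set_option autoImplicit false
set_option linter.unusedSectionVars false
set_option linter.style.haveILetI false

namespace CfsgLib.ResThree

open Matrix CfsgLib.UnitSLElusive

variable {F : Type*} [Field F] [Fintype F]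

local notation "G3" => Matrix.GeneralLinearGroup (Fin 3) F
local notation "M3" => Matrix (Fin 3) (Fin 3) F
local notation "Zs" => Cfsg.Geo.scalars (Fin 3) F

variable {P : Subgroup (Matrix.GeneralLinearGroup (Fin 3) F)}

theorem exists_q {σ : F ≃+* F} (hσ : ∀ a, σ (σ a) = a) (hne : σ ≠ RingEquiv.refl F) :
    ∃ q : ℕ, Fintype.card F = q ^ 2 ∧ ∀ a, σ a = a ^ q := by
  classical
  obtain ⟨p, hchar⟩ := CharP.exists F
  haveI : Fact p.Prime := ⟨CharP.char_is_prime F p⟩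
  obtain ⟨n, -, hn⟩ := FiniteField.card F p
  obtain ⟨i, hi, hσi⟩ := CfsgLib.Homogeneous.SD.exists_frobenius_pow (p := p) σ
  have hp := (Fact.out : p.Prime).two_le
  have hi0 : i ≠ 0 := fun e => hne (RingEquiv.ext fun a => by rw [hσi, e, pow_zero, pow_one]; rfl)
  have hall : ∀ a : F, a ^ p ^ (2 * i) = a := fun a => by
    rw [two_mul, pow_add, pow_mul, ← hσi, ← hσi, hσ]
  have hin : i < (n : ℕ) := by
    rw [hn, ← pow_succ] at hi
    exact (Nat.pow_le_pow_iff_right hp).1 hi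
  have h2i : (n : ℕ) ∣ 2 * i := by
    obtain ⟨g, hg⟩ := IsCyclic.exists_generator (α := Fˣ)
    have hog : orderOf g = p ^ (n : ℕ) - 1 := by
      rw [orderOf_eq_card_of_forall_mem_zpowers hg, Nat.card_eq_fintype_card, Fintype.card_units, hn]
    have h1 : g ^ (p ^ (2 * i) - 1) = 1 := Units.ext (by
      rw [Units.val_pow_eq_pow_val, Units.val_one]
      apply mul_right_cancel₀ g.ne_zero
      rw [← pow_succ, Nat.sub_add_cancel (Nat.one_le_pow _ _ (by omega)), hall, one_mul])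
    have hd := orderOf_dvd_of_pow_eq_one h1
    rw [hog] at hd
    have hg' := Nat.pow_sub_one_gcd_pow_sub_one p (n : ℕ) (2 * i)
    rw [Nat.gcd_eq_left hd] at hg'
    have hpos : 1 ≤ p ^ (n : ℕ) := Nat.one_le_pow _ _ (by omega)
    have hpos' : 1 ≤ p ^ Nat.gcd (n : ℕ) (2 * i) := Nat.one_le_pow _ _ (by omega)
    exact Nat.gcd_eq_left_iff_dvd.1 (Nat.pow_right_injective hp (by omega : p ^ Nat.gcd (n : ℕ) (2 * i) = p ^ (n : ℕ)))
  obtain ⟨k, hk⟩ := h2i
  have hk2 : k < 2 := by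
    by_contra h
    have : (n : ℕ) * 2 ≤ (n : ℕ) * k := Nat.mul_le_mul le_rfl (by omega)
    omega
  have hk0 : k ≠ 0 := by rintro rfl; omega
  obtain rfl : k = 1 := by omega
  exact ⟨p ^ i, by rw [hn, ← pow_mul]; congr 1; omega, hσi⟩

/-- Matrix condition for the standard unitary group. -/
theorem mem_gu_of_st {q : ℕ} {σ : F →+* F} (hσ : ∀ a, σ a = a ^ q) {g : G3} (h : st σ g.1 * g.1 = 1) :
    g ∈ Cfsg.GU 3 F q := by
  intro u v
  have key : ∀ a b : Fin 3 → F, Cfsg.hermForm 3 F q a b = a ⬝ᵥ (σ ∘ b) := fun a b => by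
    simp [Cfsg.hermForm, dotProduct, hσ]
  rw [key, key]
  show (g.1 *ᵥ u) ⬝ᵥ (σ ∘ (g.1 *ᵥ v)) = _
  rw [show σ ∘ (g.1 *ᵥ v) = g.1.map σ *ᵥ (σ ∘ v) from funext fun i => RingHom.map_mulVec σ _ _ i,
    ← Matrix.vecMul_transpose, ← dotProduct_mulVec, Matrix.mulVec_mulVec]
  have h' := congrArg Matrix.transpose h
  rw [st, Matrix.transpose_mul, Matrix.transpose_transpose, Matrix.transpose_one] at h'
  rw [h', Matrix.one_mulVec]

theorem st_of_mem_gu {q : ℕ} {σ : F →+* F} (hσ : ∀ a, σ a = a ^ q) {g : G3} (h : g ∈ Cfsg.GU 3 F q) :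
    st σ g.1 * g.1 = 1 := by
  have key : ∀ a b : Fin 3 → F, Cfsg.hermForm 3 F q a b = a ⬝ᵥ (σ ∘ b) := fun a b => by
    simp [Cfsg.hermForm, dotProduct, hσ]
  ext i j
  have h1 := h (Pi.single j 1) (Pi.single i 1)
  rw [key, key, show σ ∘ (Pi.single i (1 : F)) = Pi.single i 1 from funext fun x => by
    simp [Pi.single_apply, apply_ite σ]] at h1
  have h2 : (g.1 *ᵥ Pi.single j 1) ⬝ᵥ (σ ∘ (g.1 *ᵥ Pi.single i 1)) = (st σ g.1 * g.1) i j := by
    rw [mulVec_single_one, mulVec_single_one]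
    simp [Matrix.mul_apply, st, dotProduct, mul_comm]
  rw [← h2]
  exact h1.trans (by simp [Matrix.one_apply, Pi.single_apply, eq_comm])

/-- A basis making the fixed form standard. -/
theorem unitary_basis (hf : FixesUnitary P) :
    ∃ (q : ℕ) (σ : F →+* F) (A : G3), Fintype.card F = q ^ 2 ∧ (∀ a, σ a = a ^ q) ∧ (∀ a, σ (σ a) = a) ∧
      ∀ x ∈ P, A⁻¹ * x * A ∈ Cfsg.GU 3 F q := by
  obtain ⟨s, f, hu, hfix⟩ := hf
  obtain ⟨q, hq, hs⟩ := exists_q hu.involutive hu.ne_refl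
  obtain ⟨p, hchar⟩ := CharP.exists F
  haveI : Fact p.Prime := ⟨CharP.char_is_prime F p⟩
  have hpow : Cfsg.Geo.IsUnitaryFormPow q f :=
    ⟨hu.add_left, hu.smul_left, fun v w => by rw [← hs]; exact hu.herm v w, hu.nondegenerate⟩
  obtain ⟨σ, Hm, hσ, hσσ, -, hH, hH0, hfm⟩ := exists_data (p := p) hq hpow
  have hne : ∃ a, σ a ≠ a := by
    by_contra h
    push Not at h
    exact hu.ne_refl (RingEquiv.ext fun a => by rw [hs, ← hσ, h]; rfl)
  obtain ⟨P₀, hP₀, hPG⟩ := exists_congr_herm hσσ hne hH hH0 (st_one σ) (by rw [Matrix.det_one]; exact one_ne_zero)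
  set A : G3 := Matrix.GeneralLinearGroup.mkOfDetNeZero P₀ hP₀
  refine ⟨q, σ, A, hq, hσ, hσσ, fun x hx => mem_gu_of_st hσ ?_⟩
  have key : st σ x.1 * Hm * x.1 = Hm := by
    refine Matrix.ext fun i j => ?_
    have h1 := hfix x.1 ⟨x, hx, rfl⟩ (Pi.single j 1) (Pi.single i 1)
    rw [hfm, hfm, show σ ∘ (x.1 *ᵥ Pi.single i 1) = x.1.map σ *ᵥ (σ ∘ Pi.single i 1) from
        funext fun k => RingHom.map_mulVec σ _ _ k,
      ← vecMul_transpose, ← dotProduct_mulVec, mulVec_mulVec, mulVec_mulVec,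
      show σ ∘ Pi.single i (1 : F) = Pi.single i 1 from funext fun k => by
        simp [Pi.single_apply, apply_ite σ], mulVec_single_one, mulVec_single_one, single_one_dotProduct,
      single_one_dotProduct] at h1
    exact h1
  show st σ ((A⁻¹ * x * A : G3).1) * (A⁻¹ * x * A : G3).1 = 1
  have hA : st σ P₀ * Hm * P₀ = 1 := hPG
  have hAi : (A⁻¹ : G3).1 = st σ P₀ * Hm := by
    calc (A⁻¹ : G3).1 = st σ P₀ * Hm * P₀ * (A⁻¹ : G3).1 := by rw [hA, one_mul]
      _ = _ := by rw [mul_assoc _ P₀]; exact (congrArg _ (Units.mul_inv A)).trans (mul_one _)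
  rw [Units.val_mul, Units.val_mul, hAi, st_mul, st_mul, st_mul, st_st hσσ, hH]
  calc st σ P₀ * (st σ x.1 * (Hm * P₀)) * (st σ P₀ * Hm * x.1 * P₀)
      = st σ P₀ * (st σ x.1 * (Hm * (P₀ * (st σ P₀ * Hm))) * x.1) * P₀ := by simp only [mul_assoc]
    _ = st σ P₀ * (st σ x.1 * Hm * x.1) * P₀ := by
        rw [← hAi, show P₀ * (A⁻¹ : G3).1 = 1 from Units.mul_inv A, mul_one]
    _ = 1 := by rw [key, hA]

/-- The core fixes a unitary form and has transvections. -/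
theorem unitary_case {H : Subgroup G3} (hres : Cfsg.Geo.IsResidualCore H P) (hZ : Zs ≤ H) (h2 : (2 : F) ≠ 0)
    (hf : FixesUnitary P) (ht : HasTransvection P) :
    DihedralSylow P ∨ ∃ q : ℕ, Fintype.card F = q ^ 2 ∧
      (Nonempty (H ⧸ Subgroup.subgroupOf Zs H ≃* Cfsg.PSU 3 F q) ∨
        ((∃ h ∈ H, ∀ d : F, h.1.det ≠ d ^ 3) ∧ 3 ∣ q + 1 ∧
          ∃ L : Subgroup (H ⧸ Subgroup.subgroupOf Zs H), L.index = 3 ∧ Nonempty (L ≃* Cfsg.PSU 3 F q))) := by
  classical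
  have hP := Core.of_residual hres
  obtain ⟨q, σ, A, hq, hσ, hσσ, hA⟩ := unitary_basis hf
  have hq3 : 3 ≤ q := by
    by_contra h
    have h1 := Fintype.one_lt_card (α := F)
    have : q = 2 := by interval_cases q <;> simp_all
    subst this
    haveI := CharP.exists F
    obtain ⟨p, hp⟩ := CharP.exists F
    haveI : Fact p.Prime := ⟨CharP.char_is_prime F p⟩
    obtain ⟨n, -, hn⟩ := FiniteField.card F p
    have : p = 2 := by
      refine (Nat.prime_dvd_prime_iff_eq Fact.out Nat.prime_two).1 ((Fact.out : p.Prime).dvd_of_dvd_pow (n := 2) ?_)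
      rw [← hq, hn]
      exact dvd_pow_self _ n.pos.ne'
    subst this
    exact h2 (CharP.cast_eq_zero F 2)
  set c : G3 →* G3 := (MulAut.conj A⁻¹).toMonoidHom with hc
  have hcap : ∀ g, c g = A⁻¹ * g * A := fun g => by simp [hc, MulAut.conj_apply]
  set P' := P.map c with hP'
  have hci : Function.Injective c := (MulAut.conj A⁻¹).injective
  let eP : P ≃* P' := Subgroup.equivMapOfInjective P c hci
  have hcZ : ∀ g, c g ∈ Zs ↔ g ∈ Zs := by
    intro g
    refine ⟨fun h => ?_, fun h => ?_⟩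
    · have := scalar_comm_all h A
      rw [hcap, show A⁻¹ * g * A * A = A⁻¹ * g * (A * A) by group] at this
      have e : g = A⁻¹ * g * A := by
        calc g = A * (A⁻¹ * g * A) * A⁻¹ := by group
          _ = A⁻¹ * g * A := by rw [← hcap] at *; rw [← scalar_comm_all h A, mul_inv_cancel_right]
      rw [e, ← hcap]; exact h
    · rw [hcap, mul_assoc, scalar_comm_all h A, inv_mul_cancel_left]; exact h
  have hmapq : (Subgroup.subgroupOf Zs P).map eP.toMonoidHom = Subgroup.subgroupOf Zs P' := by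
    ext y
    constructor
    · rintro ⟨x, hx, rfl⟩
      exact (hcZ x.1).2 hx
    · intro hy
      refine ⟨eP.symm y, (hcZ _).1 ?_, eP.apply_symm_apply y⟩
      have : c (eP.symm y).1 = y.1 := congrArg Subtype.val (eP.apply_symm_apply y)
      show c (eP.symm y).1 ∈ Zs
      rw [this]; exact hy
  let eq' : P ⧸ Subgroup.subgroupOf Zs P ≃* P' ⧸ Subgroup.subgroupOf Zs P' := QuotientGroup.congr _ _ eP hmapq
  haveI := hP.simple
  have hqs : QS P' := ⟨by rw [hP', ← Subgroup.map_commutator, hP.perfect], eq'.symm.isSimpleGroup,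
    fun hcm => hP.nonabelian ⟨⟨fun a b => eq'.injective (by rw [map_mul, map_mul]; exact hcm.is_comm.comm _ _)⟩⟩⟩
  have hP'c := hqs.core h2
  have hU : P' ≤ Cfsg.GU 3 F q := by
    rintro _ ⟨x, hx, rfl⟩
    rw [hcap]; exact hA x hx
  have hprim : Primitive P' := by
    rintro K hK ⟨C, hC⟩
    refine hres.no_subfield K hK ⟨C * A⁻¹, fun g hg i j => ?_⟩
    obtain ⟨x, hx, rfl⟩ := hg
    have h1 := hC _ ⟨c x, ⟨x, hx, rfl⟩, rfl⟩ i j
    have e : (C * A⁻¹ : G3).1 * x.1 * ((C * A⁻¹)⁻¹ : G3).1 = C.1 * (c x).1 * (C⁻¹ : G3).1 := by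
      rw [← Units.val_mul, ← Units.val_mul, ← Units.val_mul, ← Units.val_mul, hcap]
      congr 1
      group
    rw [e]; exact h1
  have ht' : HasTransvection P' := by
    obtain ⟨g, hg, u, φ, hu0, hφ0, hdot, he⟩ := ht
    refine ⟨c g, ⟨g, hg, rfl⟩, (A⁻¹ : G3).1 *ᵥ u, A.1ᵀ *ᵥ φ, fun e => hu0 ?_, fun e => hφ0 ?_, ?_, ?_⟩
    · have := congrArg (A.1 *ᵥ ·) e
      simpa [Matrix.mulVec_mulVec] using this
    · have := congrArg ((A⁻¹ : G3).1ᵀ *ᵥ ·) e
      simpa [Matrix.mulVec_mulVec, ← Matrix.transpose_mul] using this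
    · rw [Matrix.mulVec_transpose, ← dotProduct_mulVec, Matrix.mulVec_mulVec, Units.mul_inv, Matrix.one_mulVec, hdot]
    · rw [hcap, Units.val_mul, Units.val_mul, he, Matrix.mul_add, Matrix.add_mul, mul_one, Units.inv_mul,
        Matrix.mul_vecMulVec, Matrix.vecMulVec_mul, ← Matrix.mulVec_transpose]
  rcases transvection_unitary hq hq3 hP'c hprim hU ht' with hSU | hd
  swap
  · obtain ⟨S, n, hn, ⟨e⟩⟩ := hd
    refine Or.inl ⟨S.mapSurjective (f := eP.symm.toMonoidHom) eP.symm.surjective, n, hn, ⟨?_⟩⟩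
    exact ((S : Subgroup P').equivMapOfInjective _ eP.symm.injective).symm.trans e
  refine Or.inr ⟨q, hq, ?_⟩
  have hP'eq : ∀ g : G3, g ∈ P' ↔ g ∈ Cfsg.GU 3 F q ∧ g.1.det = 1 := fun g =>
    ⟨fun hg => ⟨hU hg, hP'c.det_eq hg⟩, fun hg => hSU ⟨hg.1, by
      show g ∈ Cfsg.Geo.specialLinear (Fin 3) F
      rw [Cfsg.Geo.specialLinear, MonoidHom.mem_ker]
      exact Units.ext hg.2⟩⟩
  let f : Cfsg.SU 3 F q →* P' :=
    (Matrix.SpecialLinearGroup.toGL.comp (Cfsg.SU 3 F q).subtype).codRestrict P' fun s =>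
      (hP'eq _).2 ⟨fun u v => s.2 u v, s.1.2⟩
  have hfb : Function.Bijective f := by
    refine ⟨fun a b h => Subtype.ext (Subtype.ext (congrArg (fun x : P' => x.1.1) h)), fun x => ?_⟩
    obtain ⟨hxu, hxd⟩ := (hP'eq _).1 x.2
    exact ⟨⟨⟨x.1.1, hxd⟩, fun u v => hxu u v⟩, Subtype.ext (Units.ext rfl)⟩
  obtain ⟨e₁⟩ := quot_center hP'c (MulEquiv.ofBijective f hfb)
  let e₂ : P ⧸ Subgroup.subgroupOf Zs P ≃* Cfsg.PSU 3 F q := eq'.trans e₁
  -- normalisers are similarities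
  have hsim : ∀ h ∈ H, ∃ μ : F, μ ≠ 0 ∧ σ μ = μ ∧ μ ^ 3 = σ h.1.det * h.1.det ∧
      st σ (c h).1 * (c h).1 = μ • (1 : M3) := by
    intro h hh
    set M := st σ (c h).1 * (c h).1 with hM
    have hcomm : ∀ y ∈ P', y.1 * M = M * y.1 := by
      rintro _ ⟨x, hx, rfl⟩
      have hy := st_of_mem_gu hσ (hU ⟨_, hres.normal h hh x hx, rfl⟩ : c (h * x * h⁻¹) ∈ _)
      have hx1 := st_of_mem_gu hσ (hU ⟨x, hx, rfl⟩ : c x ∈ _)
      rw [map_mul, map_mul, map_inv] at hy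
      set X := (c x).1
      set Hh := (c h).1
      have hy2 : st σ X * M * X = M := by
        have e : Hh * X = (c h * c x * (c h)⁻¹ : G3).1 * Hh := by
          rw [← Units.val_mul, ← Units.val_mul, inv_mul_cancel_right]
        calc st σ X * M * X = st σ (Hh * X) * (Hh * X) := by rw [hM, st_mul]; simp only [mul_assoc]
          _ = st σ Hh * (st σ (c h * c x * (c h)⁻¹ : G3).1 * (c h * c x * (c h)⁻¹ : G3).1) * Hh := by
              rw [e, st_mul]; simp only [mul_assoc]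
          _ = M := by rw [hy, mul_one]
      have hXi : X * st σ X = 1 := mul_eq_one_comm.1 hx1
      calc X * M = X * (st σ X * M * X) := by rw [hy2]
        _ = M * X := by rw [← mul_assoc, ← mul_assoc, hXi, one_mul]
    obtain ⟨μ, hμ⟩ := scalar_of_commute hP'c.envelope_top hcomm
    have hd : (c h).1.det = h.1.det := by rw [hcap, Units.val_mul, Units.val_mul, Matrix.det_units_conj']
    have h3 : μ ^ 3 = σ h.1.det * h.1.det := by
      have := congrArg Matrix.det hμ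
      rw [hM, Matrix.det_mul, st_det, hd, Matrix.det_smul, Matrix.det_one, Fintype.card_fin, mul_one] at this
      exact this.symm
    have hμ0 : μ ≠ 0 := fun e => by
      rw [e, zero_pow (by norm_num)] at h3
      exact mul_ne_zero ((map_ne_zero σ).2 h.det_ne_zero) h.det_ne_zero h3.symm
    refine ⟨μ, hμ0, ?_, h3, hμ⟩
    have hMM : st σ M = M := by rw [hM, st_mul, st_st hσσ]
    rw [hμ, st_smul, st_one] at hMM
    simpa using congrFun (congrFun hMM 0) 0
  have scal : ∀ ν : F, ν ≠ 0 → ∃ z : G3, z ∈ Zs ∧ z.1 = ν • (1 : M3) := fun ν hν =>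
    ⟨Matrix.GeneralLinearGroup.mkOfDetNeZero (ν • 1) (by simp [hν]),
      (Cfsg.Geo.mem_scalars_iff _).2 ⟨Units.mk0 ν hν, rfl⟩, rfl⟩
  have inGU : ∀ h ∈ H, ∀ ν : F, ν ≠ 0 → ∀ μ : F, σ ν * ν = μ → st σ (c h).1 * (c h).1 = μ • (1 : M3) →
      ∃ z ∈ Zs, z.1 = ν • (1 : M3) ∧ c h * z⁻¹ ∈ Cfsg.GU 3 F q ∧ (c h * z⁻¹).1.det * ν ^ 3 = h.1.det := by
    intro h hh ν hν μ hνμ hμ
    obtain ⟨z, hz, hzv⟩ := scal ν hν
    have e : (c h).1 = ν • (c h * z⁻¹).1 := by
      conv_lhs => rw [← inv_mul_cancel_right (c h) z]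
      rw [Units.val_mul, hzv, Matrix.mul_smul, mul_one]
    refine ⟨z, hz, hzv, mem_gu_of_st hσ ?_, ?_⟩
    · rw [e, st_smul, Matrix.smul_mul, Matrix.mul_smul, smul_smul, hνμ] at hμ
      have hμ0 : μ ≠ 0 := hνμ ▸ mul_ne_zero ((map_ne_zero σ).2 hν) hν
      exact smul_right_injective M3 hμ0 hμ
    · have hd : (c h).1.det = h.1.det := by rw [hcap, Units.val_mul, Units.val_mul, Matrix.det_units_conj']
      rw [← hd, e, Matrix.det_smul, Fintype.card_fin, mul_comm]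
  have hcube : ∀ h ∈ H, ∀ d : F, h.1.det = d ^ 3 → h ∈ P ⊔ Zs := by
    intro h hh d hd
    obtain ⟨μ, hμ0, hσμ, hμ3, hμ⟩ := hsim h hh
    have hd0 : d ≠ 0 := fun e => h.det_ne_zero (by rw [hd, e]; ring)
    set t := μ / (σ d * d) with ht
    have hσd : σ d ≠ 0 := (map_ne_zero σ).2 hd0
    have ht3 : t ^ 3 = 1 := by
      rw [ht, div_pow, hμ3, hd, map_pow, mul_pow, div_self]
      exact mul_ne_zero (pow_ne_zero _ hσd) (pow_ne_zero _ hd0)
    have ht0 : t ≠ 0 := div_ne_zero hμ0 (mul_ne_zero hσd hd0)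
    have htσ : σ t = t := by rw [ht, map_div₀, map_mul, hσσ, hσμ, mul_comm d]
    have hνμ : σ (d / t) * (d / t) = μ := by
      rw [map_div₀, htσ]
      field_simp
      rw [ht] at ht3 ⊢
      field_simp at ht3 ⊢
      linear_combination -ht3
    obtain ⟨z, hz, -, hgu, hdet⟩ := inGU h hh (d / t) (div_ne_zero hd0 ht0) μ hνμ hμ
    have hg1 : (c h * z⁻¹).1.det = 1 := by
      rw [div_pow, ht3, div_one, hd] at hdet
      exact mul_right_cancel₀ (pow_ne_zero 3 hd0) (hdet.trans (one_mul _).symm)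
    obtain ⟨x, hx, ex⟩ := (hP'eq _).2 ⟨hgu, hg1⟩
    have hez : c z = z := by rw [hcap, mul_assoc, scalar_comm_all hz A, inv_mul_cancel_left]
    have : h = x * z := hci (by rw [map_mul, ex, hez, inv_mul_cancel_right])
    rw [this]
    exact Subgroup.mul_mem_sup hx hz
  rcases index_cases hres.le (fun x hx => hP.det_eq hx) hZ hcube with h | ⟨h3, hex⟩
  · obtain ⟨e⟩ := quot_iso hres.le hZ h
    exact Or.inl ⟨e.trans e₂⟩
  · refine Or.inr ⟨hex, ?_, ?_⟩
    · by_contra hq1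
      obtain ⟨h, hh, hne⟩ := hex
      obtain ⟨μ, hμ0, hσμ, hμ3, hμ⟩ := hsim h hh
      have hd0 := h.det_ne_zero
      set ν := h.1.det / μ with hν
      have hνμ : σ ν * ν = μ := by
        rw [hν, map_div₀, hσμ, div_mul_div_comm, ← hμ3]
        field_simp
      obtain ⟨z, -, -, hgu, hdet⟩ := inGU h hh ν (div_ne_zero hd0 hμ0) μ hνμ hμ
      set g := c h * z⁻¹
      have hn : σ g.1.det * g.1.det = 1 := by
        have := congrArg Matrix.det (st_of_mem_gu hσ hgu)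
        rwa [Matrix.det_mul, st_det, Matrix.det_one] at this
      rw [hσ, ← pow_succ] at hn
      have hcop : Nat.Coprime 3 (q + 1) := (Nat.prime_three.coprime_iff_not_dvd).2 hq1
      obtain ⟨d, hd⟩ : ∃ d : F, g.1.det = d ^ 3 := by
        obtain ⟨m, -, hm⟩ := Nat.exists_mul_mod_eq_one_of_coprime hcop (by omega)
        refine ⟨g.1.det ^ m, ?_⟩
        rw [← pow_mul, mul_comm m 3, ← Nat.mod_add_div (3 * m) (q + 1), hm, pow_add, pow_one, pow_mul, hn, one_pow, mul_one]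
      exact hne (d * ν) (by rw [← hdet, hd, mul_pow])
    · obtain ⟨L, hL, ⟨e⟩⟩ := exists_sub hres.le hZ
      exact ⟨L, hL.trans h3, ⟨e.trans e₂⟩⟩

end CfsgLib.ResThree
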