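import Cfsg.Agent.Lib.MaxSub.ResThree.Sub.Descent
import Cfsg.Agent.Lib.MaxSub.ResThree.Sub.Socle
import Cfsg.Agent.Lib.MaxSub.ResThree.Sub.Seven
import Cfsg.Agent.Lib.MaxSub.ResThree.Sub.AltCase
import Cfsg.Agent.Lib.MaxSub.ResThree.Sub.Linear
import Cfsg.Agent.Lib.MaxSub.ResThree.Sub.Unitary
import Cfsg.Agent.Lib.MaxSub.ResThree.Sub.QuadCase
import Cfsg.Agent.Lib.MaxSub.ResThree.NoTv.Main
import Cfsg.Agent.Lib.MaxSub.ResThree.Tv.Main
import Cfsg.Agent.Lib.SmallSimple.Order168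

/-!
The subgroups of `PSL₃(q)`, `q` odd, without normal elementary abelian subgroups.
-/

set_option autoImplicit false
set_option linter.unusedSectionVars false
set_option linter.style.haveILetI false

namespace CfsgLib.ResThree

open Matrix

/-- The list of possible isomorphism types. -/
def Shapes (p α : ℕ) (X : Type*) [Group X] : Prop :=
    (∃ (K : Type) (_ : Field K) (_ : Fintype K) (β : ℕ), Fintype.card K = p ^ β ∧ β ∣ α ∧ Nonempty (X ≃* Matrix.ProjectiveSpecialLinearGroup (Fin 3) K)) ∨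
    (∃ (K : Type) (_ : Field K) (_ : Fintype K) (β : ℕ), Fintype.card K = p ^ (2 * β) ∧ 2 * β ∣ α ∧ Nonempty (X ≃* Cfsg.PSU 3 K (p ^ β))) ∨
    (∃ (K : Type) (_ : Field K) (_ : Fintype K) (β : ℕ), Fintype.card K = p ^ β ∧ 3 ∣ p ^ β - 1 ∧ 3 * β ∣ α ∧ ∃ L : Subgroup X, L.index = 3 ∧ Nonempty (↥L ≃* Matrix.ProjectiveSpecialLinearGroup (Fin 3) K)) ∨
    (∃ (K : Type) (_ : Field K) (_ : Fintype K) (β : ℕ), Fintype.card K = p ^ (2 * β) ∧ 3 ∣ p ^ β + 1 ∧ 6 * β ∣ α ∧ ∃ L : Subgroup X, L.index = 3 ∧ Nonempty (↥L ≃* Cfsg.PSU 3 K (p ^ β))) ∨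
    (∃ (K : Type) (_ : Field K) (_ : Fintype K) (β : ℕ), Fintype.card K = p ^ β ∧ β ∣ α ∧ p ^ β ≠ 3 ∧ (Nonempty (X ≃* Matrix.ProjectiveSpecialLinearGroup (Fin 2) K) ∨ Nonempty (X ≃* (GL (Fin 2) K ⧸ Subgroup.center (GL (Fin 2) K))))) ∨
    ((p ^ α % 10 = 1 ∨ p ^ α % 10 = 9) ∧ ∃ (K : Type) (_ : Field K) (_ : Fintype K), Fintype.card K = 5 ∧ Nonempty (X ≃* Matrix.ProjectiveSpecialLinearGroup (Fin 2) K)) ∨
    ((p ^ α) ^ 3 % 7 = 1 ∧ ∃ (K : Type) (_ : Field K) (_ : Fintype K), Fintype.card K = 7 ∧ Nonempty (X ≃* Matrix.ProjectiveSpecialLinearGroup (Fin 2) K)) ∨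
    (p = 5 ∧ Even α ∧ (Nonempty (X ≃* ↥(alternatingGroup (Fin 6))) ∨ Nonempty (X ≃* ↥(alternatingGroup (Fin 7))) ∨
      ∃ L : Subgroup X, L.index = 2 ∧ Nonempty (↥L ≃* ↥(alternatingGroup (Fin 6))))) ∨
    ((p ^ α % 30 = 1 ∨ p ^ α % 30 = 19) ∧ Nonempty (X ≃* ↥(alternatingGroup (Fin 6))))

theorem Shapes.congr {p α : ℕ} {X Y : Type*} [Group X] [Group Y] (h : Shapes p α X) (e : Y ≃* X) : Shapes p α Y := by
  have sub : ∀ {L : Subgroup X}, (L.comap e.toMonoidHom).index = L.index ∧ Nonempty (L.comap e.toMonoidHom ≃* L) :=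
    fun {L} => ⟨Subgroup.index_comap_of_surjective _ e.surjective, ⟨(e.subgroupMap _).trans
      (MulEquiv.subgroupCongr (Subgroup.map_comap_eq_self_of_surjective e.surjective L))⟩⟩
  rcases h with ⟨K, i, j, β, a, b, ⟨f⟩⟩ | ⟨K, i, j, β, a, b, ⟨f⟩⟩ | ⟨K, i, j, β, a, b, c, L, hL, ⟨f⟩⟩ |
    ⟨K, i, j, β, a, b, c, L, hL, ⟨f⟩⟩ | ⟨K, i, j, β, a, b, c, ⟨⟨f⟩⟩ | ⟨⟨f⟩⟩⟩ | ⟨a, K, i, j, b, ⟨f⟩⟩ |
    ⟨a, K, i, j, b, ⟨f⟩⟩ | ⟨a, b, ⟨⟨f⟩⟩ | ⟨⟨f⟩⟩ | ⟨L, hL, ⟨f⟩⟩⟩ | ⟨a, ⟨f⟩⟩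
  · exact Or.inl ⟨K, i, j, β, a, b, ⟨e.trans f⟩⟩
  · exact Or.inr (Or.inl ⟨K, i, j, β, a, b, ⟨e.trans f⟩⟩)
  · obtain ⟨h1, ⟨g⟩⟩ := sub (L := L)
    exact Or.inr (Or.inr (Or.inl ⟨K, i, j, β, a, b, c, _, h1.trans hL, ⟨g.trans f⟩⟩))
  · obtain ⟨h1, ⟨g⟩⟩ := sub (L := L)
    exact Or.inr (Or.inr (Or.inr (Or.inl ⟨K, i, j, β, a, b, c, _, h1.trans hL, ⟨g.trans f⟩⟩)))
  · exact Or.inr (Or.inr (Or.inr (Or.inr (Or.inl ⟨K, i, j, β, a, b, c, Or.inl ⟨e.trans f⟩⟩))))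
  · exact Or.inr (Or.inr (Or.inr (Or.inr (Or.inl ⟨K, i, j, β, a, b, c, Or.inr ⟨e.trans f⟩⟩))))
  · exact Or.inr (Or.inr (Or.inr (Or.inr (Or.inr (Or.inl ⟨a, K, i, j, b, ⟨e.trans f⟩⟩)))))
  · exact Or.inr (Or.inr (Or.inr (Or.inr (Or.inr (Or.inr (Or.inl ⟨a, K, i, j, b, ⟨e.trans f⟩⟩))))))
  · exact Or.inr (Or.inr (Or.inr (Or.inr (Or.inr (Or.inr (Or.inr (Or.inl ⟨a, b, Or.inl ⟨e.trans f⟩⟩)))))))
  · exact Or.inr (Or.inr (Or.inr (Or.inr (Or.inr (Or.inr (Or.inr (Or.inl ⟨a, b, Or.inr (Or.inl ⟨e.trans f⟩)⟩)))))))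
  · obtain ⟨h1, ⟨g⟩⟩ := sub (L := L)
    exact Or.inr (Or.inr (Or.inr (Or.inr (Or.inr (Or.inr (Or.inr (Or.inl
      ⟨a, b, Or.inr (Or.inr ⟨_, h1.trans hL, ⟨g.trans f⟩⟩)⟩)))))))
  · exact Or.inr (Or.inr (Or.inr (Or.inr (Or.inr (Or.inr (Or.inr (Or.inr ⟨a, ⟨e.trans f⟩⟩)))))))

theorem psl_seven : Nonempty (Matrix.ProjectiveSpecialLinearGroup (Fin 3) (ZMod 2) ≃*
    Matrix.ProjectiveSpecialLinearGroup (Fin 2) (ZMod 7)) := by
  haveI : Fact (Nat.Prime 2) := ⟨Nat.prime_two⟩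
  haveI : Fact (Nat.Prime 7) := ⟨by norm_num⟩
  haveI : IsSimpleGroup (Matrix.ProjectiveSpecialLinearGroup (Fin 3) (ZMod 2)) :=
    CfsgLib.SLPerfect.isSimpleGroup le_rfl
  haveI : IsSimpleGroup (Matrix.ProjectiveSpecialLinearGroup (Fin 2) (ZMod 7)) :=
    Matrix.ProjectiveSpecialLinearGroup.rank_two_simple (by rw [Nat.card_zmod]; norm_num)
  refine CfsgLib.Order168.nonempty_mulEquiv ?_ ?_
  · have h := CfsgLib.SLCard.card_SL_center (F := ZMod 2) (n := 3) (by norm_num)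
    rw [ZMod.card] at h
    have hb : Subgroup.center (Matrix.SpecialLinearGroup (Fin 3) (ZMod 2)) = ⊥ :=
      Subgroup.eq_bot_of_card_eq _ (by rw [h]; norm_num)
    rw [Nat.card_congr ((QuotientGroup.quotientMulEquivOfEq hb).trans QuotientGroup.quotientBot).toEquiv,
      Nat.card_congr (CfsgLib.SLShort.slCongr 3 (RingEquiv.refl (ZMod 2))).toEquiv]
    exact (by
      have := Subgroup.card_mul_index (Matrix.GeneralLinearGroup.det (n := Fin 3) (R := ZMod 2)).ker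
      have hone : ∀ u : (ZMod 2)ˣ, u = 1 := fun u => Units.ext (CfsgLib.Order168.units_two u)
      have hk : (Matrix.GeneralLinearGroup.det (n := Fin 3) (R := ZMod 2)).ker = ⊤ :=
        eq_top_iff.2 fun g _ => hone _
      have hb2 : Function.Bijective (Matrix.SpecialLinearGroup.toGL : Matrix.SpecialLinearGroup (Fin 3) (ZMod 2) →* GL (Fin 3) (ZMod 2)) := by
        refine ⟨fun a b h => Subtype.ext (congrArg Units.val h), fun g => ⟨⟨g.1, ?_⟩, Units.ext rfl⟩⟩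
        have hg : g ∈ (Matrix.GeneralLinearGroup.det (n := Fin 3) (R := ZMod 2)).ker := hk ▸ Subgroup.mem_top g
        exact congrArg Units.val hg
      rw [Nat.card_congr (Equiv.ofBijective _ hb2)]
      exact CfsgLib.Order168.gl32.2)
  · have := CfsgLib.DicksonFull.card_psl (F := ZMod 7)
    rw [ZMod.card] at this
    rw [show Nat.gcd 2 (7 - 1) = 2 from by decide] at this
    omega

/-- The statement over a field in the bottom universe. -/
theorem shapes_of_type {F : Type} [Field F] [Fintype F] (p α : ℕ) [Fact p.Prime] (hp : p ≠ 2)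
    (hF : Fintype.card F = p ^ α) {H : Subgroup (Matrix.ProjectiveSpecialLinearGroup (Fin 3) F)} (hH : H ≠ ⊥)
    (hN : NoElemNormal H) : Shapes p α H := by
  classical
  have hpp : p.Prime := Fact.out
  haveI hchar : CharP F p := by
    obtain ⟨ℓ, hℓ⟩ := CharP.exists F
    obtain ⟨n, hℓp, hn⟩ := FiniteField.card F ℓ
    have h1 : ℓ ∣ p ^ α := hF ▸ hn ▸ dvd_pow_self _ n.pos.ne'
    obtain rfl := (Nat.prime_dvd_prime_iff_eq hℓp hpp).1 (hℓp.dvd_of_dvd_pow h1)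
    exact hℓ
  have h2 : (2 : F) ≠ 0 := fun h => hp ((Nat.prime_dvd_prime_iff_eq hpp Nat.prime_two).1
    ((CharP.cast_eq_zero_iff F p 2).1 (by exact_mod_cast h)))
  obtain ⟨Ht, hZ, hcube, ⟨eH⟩⟩ := exists_preimage H
  haveI : Nontrivial H := (Subgroup.nontrivial_iff_ne_bot H).2 hH
  haveI := eH.toEquiv.nontrivial
  obtain ⟨P, hover⟩ := exists_over h2 hZ hcube inferInstance (hN.of_equiv eH)
  obtain ⟨F₀, H₀, P₀, hres, hZ₀, hcube₀, ⟨e₀⟩⟩ := hover.descend h2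
  refine Shapes.congr ?_ (eH.symm.trans e₀)
  obtain ⟨β, hβ', hβα⟩ := subfield_exp F₀ hpp hF
  haveI : Fintype F₀ := Fintype.ofFinite _
  have hβ : Fintype.card F₀ = p ^ β := by rw [← Nat.card_eq_fintype_card]; exact hβ'
  haveI : CharP F₀ p := (CharP.charP_iff_prime_eq_zero hpp).2 (Subtype.ext (by simpa using CharP.cast_eq_zero F p))
  have h20 : (2 : F₀) ≠ 0 := fun h => hp ((Nat.prime_dvd_prime_iff_eq hpp Nat.prime_two).1
    ((CharP.cast_eq_zero_iff F₀ p 2).1 (by exact_mod_cast h)))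
  have hP := Core.of_residual hres
  have hprim := primitive_of_residual hres
  obtain ⟨k, hk⟩ := hβα
  have hqα : p ^ α = (p ^ β) ^ k := by rw [hk, pow_mul]
  have hodd : p ^ α % 2 = 1 := Nat.odd_iff.1 ((hpp.odd_of_ne_two hp).pow)
  have descend3 : (∃ h ∈ H₀, ∀ d : F₀, h.1.det ≠ d ^ 3) → 3 ∣ p ^ β - 1 ∧ 3 * β ∣ α := by
    rintro ⟨h, hh, hne⟩
    obtain ⟨c, hc⟩ := hcube₀ h hh
    exact cube_descent F₀ hpp hF hβ' h.det_ne_zero hc hne
  have hdih : DihedralSylow P₀ → Shapes p α (H₀ ⧸ (Cfsg.Geo.scalars (Fin 3) F₀).subgroupOf H₀) := by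
    intro hd
    rcases dihedral_cases (p := p) hP hprim hd with hQ | ⟨⟨e⟩, hcase⟩ | ⟨⟨e⟩, hcase⟩ | ⟨⟨e⟩, hp5, hcard, -⟩
    · rcases quad_case hres hZ₀ p hp hβ hQ with ⟨K, i, j, γ, hK, hγ, h3, h⟩ | ⟨hm, ⟨e⟩⟩
      · exact Or.inr (Or.inr (Or.inr (Or.inr (Or.inl ⟨K, i, j, γ, hK, hγ.trans ⟨k, hk⟩, h3, h⟩))))
      · haveI : Fact (Nat.Prime 5) := ⟨by norm_num⟩
        obtain ⟨e5⟩ := Cfsg.Agent.S0253.result (F := ZMod 5) (ZMod.card 5)
        refine Or.inr (Or.inr (Or.inr (Or.inr (Or.inr (Or.inl ⟨?_, ZMod 5, inferInstance, inferInstance, ZMod.card 5,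
          ⟨e.trans e5.symm⟩⟩)))))
        have : p ^ α % 5 = 1 ∨ p ^ α % 5 = 4 := by
          rw [hqα, Nat.pow_mod]
          rcases hm with e | e <;> rw [e]
          · simp
          · rcases Nat.even_or_odd k with ⟨j, rfl⟩ | ⟨j, rfl⟩
            · left; rw [← two_mul, pow_mul, Nat.pow_mod]; simp
            · right; rw [pow_succ, pow_mul, Nat.mul_mod, Nat.pow_mod]; simp
        omega
    · have hp7 : p % 7 ≠ 0 ∧ (p ^ β) ^ 3 % 7 = 1 := by
        rcases hcase with ⟨h, -⟩ | ⟨-, h, h7⟩ | ⟨h, h7, -⟩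
        · exact absurd h hp
        · refine ⟨by omega, ?_⟩
          rw [← hβ, h, Nat.pow_mod]
          rcases h7 with e | e | e <;> rw [e]
        · refine ⟨by omega, ?_⟩
          rw [← hβ, h, ← pow_mul, Nat.pow_mod]
          rcases h7 with e | e | e <;> rw [e]
      have hp7' : p ≠ 7 := fun h => hp7.1 (by rw [h])
      obtain ⟨-, -, a, b, hab⟩ := exists_sevenPair hP e
      obtain ⟨q⟩ := quot_iso hres.le hZ₀ fun h hh => no_outer_seven p hP hp7' hab (hres.normal h hh)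
      obtain ⟨e7⟩ := psl_seven
      haveI : Fact (Nat.Prime 7) := ⟨by norm_num⟩
      refine Or.inr (Or.inr (Or.inr (Or.inr (Or.inr (Or.inr (Or.inl ⟨?_, ZMod 7, inferInstance, inferInstance,
        ZMod.card 7, ⟨(q.trans e).trans e7⟩⟩))))))
      rw [hqα, ← pow_mul, mul_comm k, pow_mul, Nat.pow_mod, hp7.2]
      simp
    · have hp3 : p ≠ 3 := by
        rcases hcase with ⟨-, h⟩ | ⟨-, h, -⟩ | ⟨-, h, -⟩ <;> omega
      obtain ⟨hpair, hfive⟩ := six_index p hp3 hres e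
      by_cases hp5 : p = 5
      · have hβ2 : β = 2 := by
          rcases hcase with ⟨-, h⟩ | ⟨h, -⟩ | ⟨h, -⟩
          · omega
          · exact Nat.pow_right_injective hpp.two_le (hβ.symm.trans h)
          · exact Nat.pow_right_injective hpp.two_le (hβ.symm.trans h)
        refine Or.inr (Or.inr (Or.inr (Or.inr (Or.inr (Or.inr (Or.inr (Or.inl ⟨hp5, ?_, ?_⟩)))))))
        · rw [hk, hβ2]; exact even_two_mul k
        by_cases hall : H₀ ≤ P₀ ⊔ Cfsg.Geo.scalars (Fin 3) F₀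
        · obtain ⟨q⟩ := quot_iso hres.le hZ₀ hall
          exact Or.inl ⟨q.trans e⟩
        · obtain ⟨a, ha, hna⟩ := SetLike.not_le_iff_exists.1 hall
          obtain ⟨L, hL, ⟨q⟩⟩ := exists_sub hres.le hZ₀
          refine Or.inr (Or.inr ⟨L, hL.trans ?_, ⟨q.trans e⟩⟩)
          refine Subgroup.index_eq_two_iff.2 ⟨⟨a, ha⟩, fun b => ?_⟩
          rw [Subgroup.mem_subgroupOf, Subgroup.mem_subgroupOf, Subgroup.coe_mul]
          by_cases hb : (b : Matrix.GeneralLinearGroup (Fin 3) F₀) ∈ P₀ ⊔ Cfsg.Geo.scalars (Fin 3) F₀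
          · exact Or.inr ⟨hb, fun h => hna (by simpa using Subgroup.mul_mem _ (Subgroup.inv_mem _ hb) h)⟩
          · refine Or.inl ⟨?_, hb⟩
            have := hpair _ (H₀.inv_mem b.2) a ha (fun h => hb (by simpa using Subgroup.inv_mem _ h)) hna
            rwa [inv_inv] at this
      · obtain ⟨q⟩ := quot_iso hres.le hZ₀ (hfive hp5)
        refine Or.inr (Or.inr (Or.inr (Or.inr (Or.inr (Or.inr (Or.inr (Or.inr ⟨?_, ⟨q.trans e⟩⟩)))))))
        have hm : p ^ β % 15 = 1 ∨ p ^ β % 15 = 4 := by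
          rcases hcase with ⟨h, h15⟩ | ⟨h, -, h5, -⟩ | ⟨h, h15, -⟩
          · rw [← hβ, h]; exact h15
          · rw [← hβ, h, Nat.pow_mod]
            have h3' : p % 3 ≠ 0 := fun h0 => hp3 ((Nat.prime_dvd_prime_iff_eq Nat.prime_three hpp).1
              (Nat.dvd_of_mod_eq_zero h0)).symm
            have : p % 15 = 2 ∨ p % 15 = 7 ∨ p % 15 = 8 ∨ p % 15 = 13 := by omega
            rcases this with e | e | e | e <;> rw [e] <;> simp
          · rw [← hβ, h, Nat.pow_mod]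
            rcases h15 with e | e | e
            · exact absurd e hp5
            · rw [e]; simp
            · rw [e]; simp
        have : p ^ α % 15 = 1 ∨ p ^ α % 15 = 4 := by
          rw [hqα, Nat.pow_mod]
          rcases hm with e | e <;> rw [e]
          · simp
          · rcases Nat.even_or_odd k with ⟨j, rfl⟩ | ⟨j, rfl⟩
            · left; rw [← two_mul, pow_mul, Nat.pow_mod]; simp
            · right; rw [pow_succ, pow_mul, Nat.mul_mod, Nat.pow_mod]; simp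
        omega
    · have hp3 : p ≠ 3 := by omega
      obtain ⟨q⟩ := quot_iso hres.le hZ₀ (seven_index p hp3 hres e)
      have hβ2 : β = 2 := Nat.pow_right_injective hpp.two_le (by
        show p ^ β = p ^ 2
        rw [← hβ, hcard, hp5])
      exact Or.inr (Or.inr (Or.inr (Or.inr (Or.inr (Or.inr (Or.inr (Or.inl
        ⟨hp5, by rw [hk, hβ2]; exact even_two_mul k, Or.inr (Or.inl ⟨q.trans e⟩)⟩)))))))
  by_cases ht : HasTransvection P₀
  · rcases transvection_case hP hprim ht with hSL | hu | hd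
    · rcases linear_case hP hres.le hZ₀ hSL with h | ⟨hne, h⟩
      · exact Or.inl ⟨F₀, inferInstance, inferInstance, β, hβ, ⟨k, hk⟩, h⟩
      · exact Or.inr (Or.inr (Or.inl ⟨F₀, inferInstance, inferInstance, β, hβ, (descend3 hne).1, (descend3 hne).2, h⟩))
    · rcases unitary_case hres hZ₀ h20 hu ht with hd | ⟨q, hq, h⟩
      · exact hdih hd
      obtain ⟨γ, -, rfl⟩ := (Nat.dvd_prime_pow hpp).1 (show q ∣ p ^ β from ⟨q, by rw [← hβ, hq, pow_two]⟩)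
      have hγ : β = 2 * γ := Nat.pow_right_injective hpp.two_le (by
        show p ^ β = p ^ (2 * γ)
        rw [← hβ, hq, ← pow_mul, mul_comm])
      rcases h with h | ⟨hne, h3, h⟩
      · exact Or.inr (Or.inl ⟨F₀, inferInstance, inferInstance, γ, by rw [← hγ]; exact hβ, hγ ▸ ⟨k, hk⟩, h⟩)
      · refine Or.inr (Or.inr (Or.inr (Or.inl ⟨F₀, inferInstance, inferInstance, γ, by rw [← hγ]; exact hβ, h3, ?_, h⟩)))
        rw [show 6 * γ = 3 * β by rw [hγ]; ring]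
        exact (descend3 hne).2
    · exact hdih hd
  · exact hdih (dihedralSylow_of_no_transvection h20 hP ht)

end CfsgLib.ResThree
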