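import Cfsg.Agent.Lib.MaxSub.ResThree.Setup
import Cfsg.Agent.Lib.MaxSub.ResThree.Sub.Lift
import Cfsg.Agent.Lib.SmallRep.OrthThree
import Cfsg.Agent.Lib.FiniteForms.Congr

/-!
The overgroup of a core fixing a quadratic form embeds, modulo scalars, in `PGL₂`.
-/

set_option autoImplicit false
set_option linter.unusedSectionVars false
set_option linter.style.haveILetI false

namespace CfsgLib.ResThree

open Matrix CfsgLib.SmallRep

variable {F : Type*} [Field F]

local notation "G3" => Matrix.GeneralLinearGroup (Fin 3) F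
local notation "M3" => Matrix (Fin 3) (Fin 3) F
local notation "Zs" => Cfsg.Geo.scalars (Fin 3) F
local notation "G2" => Matrix.GeneralLinearGroup (Fin 2) F
local notation "J" => (formJ : Matrix (Fin 3) (Fin 3) F)

/-- The symmetric square of a two by two matrix. -/
def sq2 (g : Matrix (Fin 2) (Fin 2) F) : Matrix (Fin 3) (Fin 3) F :=
  !![g 0 0 * g 0 0, g 0 0 * g 0 1, g 0 1 * g 0 1;
     2 * g 0 0 * g 1 0, g 0 0 * g 1 1 + g 0 1 * g 1 0, 2 * g 0 1 * g 1 1;
     g 1 0 * g 1 0, g 1 0 * g 1 1, g 1 1 * g 1 1]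

theorem sq2_mul (g h : Matrix (Fin 2) (Fin 2) F) : sq2 (g * h) = sq2 g * sq2 h := by
  ext i j
  fin_cases i <;> fin_cases j <;>
    simp [sq2, Matrix.mul_apply, Fin.sum_univ_three, Fin.sum_univ_two] <;> ring

theorem sq2_one : sq2 (1 : Matrix (Fin 2) (Fin 2) F) = 1 := by
  ext i j
  fin_cases i <;> fin_cases j <;> simp [sq2]

theorem sq2_det (g : Matrix (Fin 2) (Fin 2) F) : (sq2 g).det = g.det ^ 3 := by
  rw [Matrix.det_fin_three, Matrix.det_fin_two]
  simp [sq2]
  ring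

theorem sq2_form (g : Matrix (Fin 2) (Fin 2) F) : (sq2 g)ᵀ * J * sq2 g = g.det ^ 2 • J := by
  rw [Matrix.det_fin_two]
  ext i j
  fin_cases i <;> fin_cases j <;> simp [sq2, formJ, Matrix.mul_apply, Fin.sum_univ_three] <;> ring

/-- The action of `GL₂` on binary quadratic forms, with trivial centre. -/
noncomputable def rho : Matrix.GeneralLinearGroup (Fin 2) F →* Matrix.GeneralLinearGroup (Fin 3) F :=
  MonoidHom.toHomUnits
    { toFun := fun g => g.1.det⁻¹ • sq2 g.1
      map_one' := by rw [Units.val_one, Matrix.det_one, inv_one, one_smul, sq2_one]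
      map_mul' := fun g h => by
        rw [Units.val_mul, sq2_mul, Matrix.det_mul, mul_inv, Matrix.smul_mul, Matrix.mul_smul, smul_smul] }

theorem rho_apply (g : G2) : (rho g).1 = g.1.det⁻¹ • sq2 g.1 := rfl

theorem rho_det (g : G2) : (rho g).1.det = 1 := by
  rw [rho_apply, Matrix.det_smul, Fintype.card_fin, sq2_det, ← mul_pow, inv_mul_cancel₀ g.det_ne_zero, one_pow]

theorem rho_form (g : G2) : (rho g).1ᵀ * J * (rho g).1 = J := by
  rw [rho_apply, Matrix.transpose_smul, Matrix.smul_mul, Matrix.smul_mul, Matrix.mul_smul, smul_smul, sq2_form,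
    smul_smul, show g.1.det⁻¹ * g.1.det⁻¹ * g.1.det ^ 2 = 1 by field_simp [g.det_ne_zero], one_smul]

theorem rho_scalar (u : Fˣ) : rho (Matrix.GeneralLinearGroup.scalar (Fin 2) u) = 1 := by
  refine Units.ext ?_
  ext i j
  fin_cases i <;> fin_cases j <;> simp [rho_apply, sq2, Matrix.det_fin_two] <;> field_simp [u.ne_zero]

theorem center_of_rho (h2 : (2 : F) ≠ 0) {g : G2} (h : rho g = 1) : g ∈ Subgroup.center G2 := by
  have hd := g.det_ne_zero
  have e : sq2 g.1 = g.1.det • (1 : M3) := by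
    have := congrArg (fun x : G3 => g.1.det • x.1) h
    rwa [rho_apply, smul_smul, mul_inv_cancel₀ hd, one_smul, Units.val_one] at this
  have e01 := congrFun (congrFun e 0) 2
  have e20 := congrFun (congrFun e 2) 0
  have e00 := congrFun (congrFun e 0) 0
  simp [sq2] at e01 e20 e00
  have h01 : g.1 0 1 = 0 := e01
  have h10 : g.1 1 0 = 0 := e20
  rw [Matrix.det_fin_two, h01, zero_mul, sub_zero] at e00 hd
  have h11 : g.1 1 1 = g.1 0 0 := (mul_left_cancel₀ (left_ne_zero_of_mul hd) e00).symm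
  rw [Matrix.GeneralLinearGroup.center_eq_range_scalar, MonoidHom.mem_range]
  refine ⟨Units.mk0 _ (left_ne_zero_of_mul hd), Units.ext ?_⟩
  ext i j
  fin_cases i <;> fin_cases j <;> simp [h01, h10, h11]

theorem rho_up (t : F) : ∃ g : G2, (rho g).1 = symSq (CfsgLib.Dickson.up t) := by
  refine ⟨Matrix.SpecialLinearGroup.toGL (CfsgLib.Dickson.up t), ?_⟩
  rw [rho_apply, show ((Matrix.SpecialLinearGroup.toGL (CfsgLib.Dickson.up t)) : G2).1 = (CfsgLib.Dickson.up t).1 from rfl,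
    (CfsgLib.Dickson.up t).2, inv_one, one_smul]
  rfl

/-- The symmetric square is onto the special orthogonal group. -/
theorem rho_surj (h2 : (2 : F) ≠ 0) {M : G3} (hM : M.1ᵀ * J * M.1 = J) (hd : M.1.det = 1) :
    M ∈ (rho (F := F)).range := by
  have mk : ∀ X : Matrix (Fin 2) (Fin 2) F, X.det ≠ 0 → ∃ g : G2, g.1 = X := fun X hX =>
    ⟨Matrix.GeneralLinearGroup.mkOfDetNeZero X hX, rfl⟩
  -- move the first column
  set v : Fin 3 → F := M.1 *ᵥ Pi.single 0 1 with hv
  have hiso : 4 * v 0 * v 2 = v 1 * v 1 := by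
    have h00 := congrFun (congrFun hM 0) 0
    simp [formJ, Matrix.mul_apply, Fin.sum_univ_three] at h00
    simp [hv, Matrix.mulVec_single_one]
    linear_combination h00
  have hv0 : v ≠ 0 := fun e => M.det_ne_zero (Matrix.det_eq_zero_of_column_eq_zero 0 fun i => by
    have := congrFun e i
    simpa [hv, Matrix.mulVec_single_one] using this)
  obtain ⟨h, hh⟩ : ∃ h : G2, ∃ c : F, v = c • ((rho h).1 *ᵥ Pi.single 0 1) := by
    by_cases hx : v 0 = 0
    · have hy : v 1 = 0 := mul_self_eq_zero.1 (by rw [← hiso, hx]; ring)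
      obtain ⟨h, hh⟩ := mk !![0, 1; 1, 0] (by simp [Matrix.det_fin_two])
      refine ⟨h, -v 2, ?_⟩
      ext i
      fin_cases i <;> simp [rho_apply, hh, Matrix.det_fin_two, sq2, hx, hy, Matrix.mulVec_single_one]
    · obtain ⟨h, hh⟩ := mk !![1, 0; v 1 / (2 * v 0), 1] (by simp [Matrix.det_fin_two])
      refine ⟨h, v 0, ?_⟩
      ext i
      fin_cases i <;> simp [rho_apply, hh, Matrix.det_fin_two, sq2, Matrix.mulVec_single_one]
      · field_simp
      · field_simp
        linear_combination hiso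
  obtain ⟨c, hc⟩ := hh
  have hc0 : c ≠ 0 := fun e => hv0 (by rw [hc, e, zero_smul])
  set M₁ : G3 := (rho h)⁻¹ * M with hM₁
  have h1 : M₁.1 *ᵥ Pi.single 0 1 = c • Pi.single 0 1 := by
    rw [hM₁, Units.val_mul, ← Matrix.mulVec_mulVec, ← hv, hc, Matrix.mulVec_smul, Matrix.mulVec_mulVec,
      Units.inv_mul, Matrix.one_mulVec]
  obtain ⟨d, hdv⟩ := mk !![c, 0; 0, 1] (by simp [Matrix.det_fin_two, hc0])
  set M₂ : G3 := (rho d)⁻¹ * M₁ with hM₂
  have hd0 : (rho d).1 *ᵥ Pi.single 0 1 = c • Pi.single 0 1 := by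
    ext i
    fin_cases i <;> simp [rho_apply, hdv, Matrix.det_fin_two, sq2, Matrix.mulVec_single_one]
    field_simp
  have h2' : M₂.1 *ᵥ Pi.single 0 1 = Pi.single 0 1 := by
    rw [hM₂, Units.val_mul, ← Matrix.mulVec_mulVec, h1, ← hd0, Matrix.mulVec_mulVec, Units.inv_mul, Matrix.one_mulVec]
  have hform : M₂.1ᵀ * J * M₂.1 = J := by
    have e : M₂ = rho (d⁻¹ * h⁻¹) * M := by rw [hM₂, hM₁, map_mul, map_inv, map_inv, mul_assoc]
    rw [e, Units.val_mul, Matrix.transpose_mul]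
    calc M.1ᵀ * (rho (d⁻¹ * h⁻¹)).1ᵀ * J * ((rho (d⁻¹ * h⁻¹)).1 * M.1)
        = M.1ᵀ * ((rho (d⁻¹ * h⁻¹)).1ᵀ * J * (rho (d⁻¹ * h⁻¹)).1) * M.1 := by simp only [Matrix.mul_assoc]
      _ = J := by rw [rho_form, hM]
  have hdet : M₂.1.det = 1 := by
    rw [hM₂, hM₁, ← map_inv, ← map_inv, Units.val_mul, Units.val_mul, Matrix.det_mul, Matrix.det_mul, rho_det,
      rho_det, hd, one_mul, one_mul]
  have hcol : ∀ i, M₂.1 i 0 = (Pi.single 0 1 : Fin 3 → F) i := fun i => by
    rw [← h2', Matrix.mulVec_single_one]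
    rfl
  obtain ⟨g, hg⟩ := rho_up (M₂.1 0 1)
  have hM₂g : M₂ = rho g := Units.ext (by
    rw [hg]
    exact eq_symSq_up h2 hform hdet (by rw [hcol]; simp) (by rw [hcol]; simp) (by rw [hcol]; simp))
  exact ⟨h * (d * g), by rw [map_mul, map_mul, ← hM₂g, hM₂, hM₁]; group⟩

variable {H P : Subgroup (Matrix.GeneralLinearGroup (Fin 3) F)}

/-- The matrix of a fixed quadratic form. -/
theorem exists_symm (h2 : (2 : F) ≠ 0) (hQ : ∃ Q : (Fin 3 → F) → F, Cfsg.Geo.IsNondegenerateQuadraticForm Q ∧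
      Cfsg.Geo.FixesQuadForm (Cfsg.Geo.matrixSet P) Q) :
    ∃ B : M3, B.IsSymm ∧ B.det ≠ 0 ∧ ∀ x ∈ P, x.1ᵀ * B * x.1 = B := by
  obtain ⟨Q, hQn, hfix⟩ := hQ
  set f := QuadraticMap.polar Q with hf
  let B : M3 := Matrix.of fun i j => f (Pi.single i 1) (Pi.single j 1)
  have hexp : ∀ u v, f u v = u ⬝ᵥ (B *ᵥ v) := by
    intro u v
    have hu : u = ∑ j, u j • Pi.single j (1 : F) := by ext k; simp [Pi.single_apply]
    have hv : v = ∑ i, v i • Pi.single i (1 : F) := by ext k; simp [Pi.single_apply]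
    have hb := hQn.polar_bilinear
    conv_lhs => rw [hu, hv]
    simp only [hf] at hb ⊢
    simp only [Fin.sum_univ_three, hb.add_left, hb.smul_left, hb.add_right, hb.smul_right]
    simp [B, hf, Matrix.mulVec, dotProduct, Fin.sum_univ_three]
    ring
  refine ⟨B, Matrix.ext fun i j => QuadraticMap.polar_comm Q _ _, fun h0 => ?_, fun x hx => ?_⟩
  · obtain ⟨v, hv0, hv⟩ := Matrix.exists_mulVec_eq_zero_iff.2 h0
    obtain ⟨⟨u, hu⟩, -⟩ := hQn.nondegenerate v hv0
    exact hu (by rw [← hf, hexp, hv, dotProduct_zero])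
  · refine Matrix.ext fun i j => ?_
    have h1 : f (x.1 *ᵥ Pi.single i 1) (x.1 *ᵥ Pi.single j 1) = f (Pi.single i 1) (Pi.single j 1) := by
      simp only [hf, QuadraticMap.polar]
      rw [← Matrix.mulVec_add, hfix x.1 ⟨x, hx, rfl⟩, hfix x.1 ⟨x, hx, rfl⟩, hfix x.1 ⟨x, hx, rfl⟩]
    rw [hexp, Matrix.mulVec_mulVec, ← Matrix.vecMul_transpose, ← dotProduct_mulVec, Matrix.mulVec_mulVec,
      ← Matrix.mul_assoc, single_one_dotProduct, Matrix.mulVec_single_one] at h1
    exact h1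

/-- The overgroup modulo scalars embeds in `PGL₂`. -/
theorem exists_pgl_embedding [Fintype F] (hres : Cfsg.Geo.IsResidualCore H P) (hZ : Zs ≤ H) (h2 : (2 : F) ≠ 0)
    (hQ : ∃ Q : (Fin 3 → F) → F, Cfsg.Geo.IsNondegenerateQuadraticForm Q ∧
      Cfsg.Geo.FixesQuadForm (Cfsg.Geo.matrixSet P) Q) :
    ∃ f : H ⧸ Subgroup.subgroupOf Zs H →* Matrix.ProjGenLinGroup (Fin 2) F, Function.Injective f := by
  classical
  have hP : Core P := ⟨hres.perfect, hres.simple, hres.nonabelian, hres.absIrred⟩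
  obtain ⟨B, hBs, hB0, hBx⟩ := exists_symm h2 hQ
  have hJs : Matrix.IsSymm J := by
    ext i j; fin_cases i <;> fin_cases j <;> simp [formJ]
  have hJ0 : (J).det ≠ 0 := by
    rw [Matrix.det_fin_three]; simp [formJ, h2]
  set k := B.det * (J).det with hk
  have hk0 : k ≠ 0 := mul_ne_zero hB0 hJ0
  obtain ⟨A₀, hA0, hA⟩ : CfsgLib.FiniteForms.Congr (k • J) B := by
    rw [CfsgLib.FiniteForms.congr_iff h2 (hJs.smul k) hBs
      (by rw [Matrix.det_smul]; exact mul_ne_zero (pow_ne_zero _ hk0) hJ0) hB0]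
    refine ⟨k ^ 2, ?_⟩
    rw [Matrix.det_smul, Fintype.card_fin, hk]
    ring
  set A : G3 := Matrix.GeneralLinearGroup.mkOfDetNeZero A₀ hA0 with hAdef
  have hA' : A.1ᵀ * J * A.1 = k⁻¹ • B := by
    rw [← hA, Matrix.mul_smul, Matrix.smul_mul, smul_smul, inv_mul_cancel₀ hk0, one_smul]
    rfl
  -- the pullback
  set c : G2 →* G3 := (MulAut.conj A⁻¹).toMonoidHom.comp rho with hc
  have hcap : ∀ g, c g = A⁻¹ * rho g * A := fun g => by simp [hc, MulAut.conj_apply]
  set S := H.comap c with hS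
  let ψ : S →* H ⧸ Subgroup.subgroupOf Zs H :=
    (QuotientGroup.mk' _).comp ((c.comp S.subtype).codRestrict H fun g => g.2)
  have hψs : Function.Surjective ψ := by
    intro y
    obtain ⟨⟨h, hh⟩, rfl⟩ := QuotientGroup.mk'_surjective _ y
    set M := h.1ᵀ * B * h.1 with hM
    have hBu : IsUnit B.det := isUnit_iff_ne_zero.2 hB0
    have hcomm : ∀ x ∈ P, x.1 * (B⁻¹ * M) = B⁻¹ * M * x.1 := by
      intro x hx
      have h1 := hBx _ (hres.normal h hh x hx)
      have h2M : x.1ᵀ * M * x.1 = M := by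
        have e : h.1 * x.1 = (h * x * h⁻¹ : G3).1 * h.1 := by
          rw [← Units.val_mul, ← Units.val_mul, inv_mul_cancel_right]
        calc x.1ᵀ * M * x.1 = (h.1 * x.1)ᵀ * B * (h.1 * x.1) := by
              rw [hM, Matrix.transpose_mul]; simp only [Matrix.mul_assoc]
          _ = h.1ᵀ * ((h * x * h⁻¹ : G3).1ᵀ * B * (h * x * h⁻¹ : G3).1) * h.1 := by
              rw [e, Matrix.transpose_mul]; simp only [Matrix.mul_assoc]
          _ = M := by rw [h1]
      have h3 : x.1 * B⁻¹ * x.1ᵀ = B⁻¹ := by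
        have hl : (B⁻¹ * x.1ᵀ * B) * x.1 = 1 := by
          rw [show B⁻¹ * x.1ᵀ * B * x.1 = B⁻¹ * (x.1ᵀ * B * x.1) by simp only [Matrix.mul_assoc], hBx x hx,
            Matrix.nonsing_inv_mul _ hBu]
        have hr := mul_eq_one_comm.1 hl
        calc x.1 * B⁻¹ * x.1ᵀ = x.1 * B⁻¹ * x.1ᵀ * (B * B⁻¹) := by rw [Matrix.mul_nonsing_inv _ hBu, mul_one]
          _ = x.1 * (B⁻¹ * x.1ᵀ * B) * B⁻¹ := by simp only [Matrix.mul_assoc]
          _ = B⁻¹ := by rw [hr, one_mul]
      calc x.1 * (B⁻¹ * M) = x.1 * B⁻¹ * (x.1ᵀ * M * x.1) := by rw [h2M, mul_assoc]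
        _ = x.1 * B⁻¹ * x.1ᵀ * (M * x.1) := by simp only [Matrix.mul_assoc]
        _ = B⁻¹ * M * x.1 := by rw [h3, ← mul_assoc B⁻¹ M]
    obtain ⟨μ, hμ⟩ := scalar_of_commute hP.envelope_top hcomm
    have hMB : M = μ • B := by
      have := congrArg (B * ·) hμ
      simpa [← Matrix.mul_assoc, Matrix.mul_nonsing_inv _ hBu] using this
    have hμ3 : μ ^ 3 = h.1.det ^ 2 := by
      have := congrArg Matrix.det hMB
      rw [hM, Matrix.det_mul, Matrix.det_mul, Matrix.det_transpose, Matrix.det_smul, Fintype.card_fin] at this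
      exact mul_right_cancel₀ hB0 (by linear_combination -this)
    have hd0 := h.det_ne_zero
    have hμ0 : μ ≠ 0 := fun e => by
      rw [e, zero_pow (by norm_num)] at hμ3
      exact pow_ne_zero 2 hd0 hμ3.symm
    set ν := h.1.det / μ with hν
    have hν0 : ν ≠ 0 := div_ne_zero hd0 hμ0
    have hν2 : ν ^ 2 = μ := by
      rw [hν, div_pow, ← hμ3]; field_simp
    have hν3 : ν ^ 3 = h.1.det := by
      rw [pow_succ, hν2, hν]; field_simp
    obtain ⟨z, hz⟩ : ∃ z : G3, z.1 = ν • (1 : M3) :=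
      ⟨Matrix.GeneralLinearGroup.mkOfDetNeZero (ν • 1) (by simp [hν0]), rfl⟩
    have hzs : z ∈ Zs := (Cfsg.Geo.mem_scalars_iff z).2 ⟨Units.mk0 ν hν0, hz⟩
    set g₀ : G3 := h * z⁻¹ with hg₀
    have hh0 : h.1 = ν • g₀.1 := by
      conv_lhs => rw [← inv_mul_cancel_right h z]
      rw [Units.val_mul, hz, Matrix.mul_smul, mul_one, hg₀]
    have hgB : g₀.1ᵀ * B * g₀.1 = B := by
      rw [hM, hh0, Matrix.transpose_smul, Matrix.smul_mul, Matrix.smul_mul, Matrix.mul_smul, smul_smul, ← pow_two, hν2] at hMB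
      exact smul_right_injective M3 hμ0 hMB
    have hgd : g₀.1.det = 1 := by
      have := congrArg Matrix.det hh0
      rw [Matrix.det_smul, Fintype.card_fin, hν3] at this
      exact mul_left_cancel₀ hd0 (by rw [mul_one]; exact this.symm)
    obtain ⟨g, hg⟩ := rho_surj h2 (M := A * g₀ * A⁻¹) (by
      have hAi : (A⁻¹ : G3).1ᵀ * (k⁻¹ • B) * (A⁻¹ : G3).1 = J := by
        calc (A⁻¹ : G3).1ᵀ * (k⁻¹ • B) * (A⁻¹ : G3).1
            = (A.1 * (A⁻¹ : G3).1)ᵀ * J * (A.1 * (A⁻¹ : G3).1) := by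
              rw [← hA', Matrix.transpose_mul]; simp only [Matrix.mul_assoc]
          _ = J := by rw [Units.mul_inv, Matrix.transpose_one, one_mul, mul_one]
      rw [Units.val_mul, Units.val_mul, Matrix.transpose_mul, Matrix.transpose_mul]
      calc (A⁻¹ : G3).1ᵀ * (g₀.1ᵀ * A.1ᵀ) * J * (A.1 * g₀.1 * (A⁻¹ : G3).1)
          = (A⁻¹ : G3).1ᵀ * (g₀.1ᵀ * (A.1ᵀ * J * A.1) * g₀.1) * (A⁻¹ : G3).1 := by simp only [Matrix.mul_assoc]
        _ = J := by rw [hA', Matrix.mul_smul, Matrix.smul_mul, hgB, hAi])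
      (by rw [Units.val_mul, Units.val_mul, Matrix.det_units_conj, hgd])
    have hcg : c g = g₀ := by rw [hcap, hg]; group
    have hgS : g ∈ S := by
      show c g ∈ H
      rw [hcg]
      exact H.mul_mem hh (H.inv_mem (hZ hzs))
    refine ⟨⟨g, hgS⟩, ?_⟩
    refine (QuotientGroup.eq (s := Subgroup.subgroupOf Zs H)).2 ?_
    show (c g)⁻¹ * h ∈ Zs
    rw [hcg, hg₀, _root_.mul_inv_rev, inv_inv, inv_mul_cancel_right]
    exact hzs
  let π : S →* Matrix.ProjGenLinGroup (Fin 2) F := (QuotientGroup.mk' (Subgroup.center G2)).comp S.subtype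
  have hker : π.ker = ψ.ker := by
    ext ⟨g, hgS⟩
    rw [MonoidHom.mem_ker, MonoidHom.mem_ker]
    refine ((QuotientGroup.eq_one_iff g).trans ?_).trans (QuotientGroup.eq_one_iff _).symm
    show g ∈ Subgroup.center G2 ↔ c g ∈ Zs
    constructor
    · intro hg
      rw [Matrix.GeneralLinearGroup.center_eq_range_scalar, MonoidHom.mem_range] at hg
      obtain ⟨u, rfl⟩ := hg
      rw [hcap, rho_scalar, mul_one, inv_mul_cancel]
      exact one_mem _
    · intro hz
      have hr : rho g ∈ Zs := by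
        have : rho g = c g := by
          calc rho g = A * c g * A⁻¹ := by rw [hcap]; group
            _ = c g := by rw [← scalar_comm_all hz A, mul_inv_cancel_right]
        rw [this]; exact hz
      obtain ⟨z, hz'⟩ := (Cfsg.Geo.mem_scalars_iff _).1 hr
      have h3 : (z : F) ^ 3 = 1 := by
        have := rho_det g
        rwa [hz', Matrix.det_smul, Fintype.card_fin, Matrix.det_one, mul_one] at this
      have hsq : (z : F) ^ 2 = 1 := by
        have := rho_form g
        rw [hz', Matrix.transpose_smul, Matrix.transpose_one, Matrix.smul_mul, Matrix.smul_mul, Matrix.mul_smul,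
          smul_smul, one_mul, mul_one] at this
        have h02 := congrFun (congrFun this 0) 2
        simp [formJ] at h02
        rw [pow_two]
        exact mul_right_cancel₀ h2 (by rw [one_mul]; exact h02)
      have hz1 : (z : F) = 1 := by rw [pow_succ, hsq, one_mul] at h3; exact h3
      exact center_of_rho h2 (Units.ext (by rw [hz', hz1, one_smul]; rfl))
  let e : S ⧸ π.ker ≃* H ⧸ Subgroup.subgroupOf Zs H :=
    (QuotientGroup.quotientMulEquivOfEq hker).trans (QuotientGroup.quotientKerEquivOfSurjective ψ hψs)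
  exact ⟨(QuotientGroup.kerLift π).comp e.symm.toMonoidHom,
    (QuotientGroup.kerLift_injective π).comp e.symm.injective⟩

end CfsgLib.ResThree
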