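import Cfsg.Agent.Lib.MaxSub.ResThree.Dihedral.Main
import Cfsg.Agent.Lib.MaxSub.ResThree.Sub.Lift

/-!
Lifts of an inverted pair of commuting elements of order three, and automorphisms induced by a normaliser.
-/

set_option autoImplicit false
set_option linter.unusedSectionVars false
set_option linter.style.haveILetI false

namespace CfsgLib.ResThree

open Matrix
open scoped commutatorElement

variable {F : Type*} [Field F] [Finite F]

local notation "G3" => Matrix.GeneralLinearGroup (Fin 3) F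
local notation "Zs" => Cfsg.Geo.scalars (Fin 3) F

variable {P : Subgroup (Matrix.GeneralLinearGroup (Fin 3) F)}

theorem scalar_conj {z : G3} (hz : z ∈ Zs) (h : G3) : h * z * h⁻¹ = z := by
  rw [← scalar_comm_all hz h, mul_inv_cancel_right]

/-- Conjugation by a normaliser, modulo scalars. -/
noncomputable def indQ {h : Matrix.GeneralLinearGroup (Fin 3) F} (hn : ∀ x ∈ P, h * x * h⁻¹ ∈ P) :
    P ⧸ (Cfsg.Geo.scalars (Fin 3) F).subgroupOf P →* P ⧸ (Cfsg.Geo.scalars (Fin 3) F).subgroupOf P :=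
  QuotientGroup.map _ _
    (((MulAut.conj h).toMonoidHom.comp P.subtype).codRestrict P fun x => hn x.1 x.2)
    (fun x hx => by
      show h * x.1 * h⁻¹ ∈ Zs
      rw [scalar_conj (show x.1 ∈ Zs from hx) h]
      exact hx)

theorem indQ_piZ {h : G3} (hn : ∀ x ∈ P, h * x * h⁻¹ ∈ P) (x : P) :
    indQ hn (piZ P x) = piZ P ⟨h * x.1 * h⁻¹, hn _ x.2⟩ := rfl

theorem indQ_bijective {h : G3} (hn : ∀ x ∈ P, h * x * h⁻¹ ∈ P) : Function.Bijective (indQ hn) := by
  haveI : Finite (P ⧸ Subgroup.subgroupOf Zs P) := inferInstance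
  refine Finite.injective_iff_bijective.1 ((injective_iff_map_eq_one _).2 fun e he => ?_)
  obtain ⟨x, rfl⟩ := QuotientGroup.mk'_surjective _ e
  refine (QuotientGroup.eq_one_iff x).2 ?_
  have hx : h * x.1 * h⁻¹ ∈ Zs := (QuotientGroup.eq_one_iff (⟨h * x.1 * h⁻¹, hn _ x.2⟩ : P)).1 he
  show x.1 ∈ Zs
  have := scalar_conj hx h⁻¹
  rw [inv_inv, show h⁻¹ * (h * x.1 * h⁻¹) * h = x.1 by group] at this
  exact this ▸ hx

theorem indQ_mul {g h : G3} (hg : ∀ x ∈ P, g * x * g⁻¹ ∈ P) (hh : ∀ x ∈ P, h * x * h⁻¹ ∈ P)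
    (hgh : ∀ x ∈ P, g * h * x * (g * h)⁻¹ ∈ P) (e : P ⧸ Subgroup.subgroupOf Zs P) :
    indQ hgh e = indQ hg (indQ hh e) := by
  obtain ⟨x, rfl⟩ := QuotientGroup.mk'_surjective _ e
  show piZ P _ = piZ P _
  congr 1
  exact Subtype.ext (by
    show g * h * x.1 * (g * h)⁻¹ = g * (h * x.1 * h⁻¹) * g⁻¹
    group)

theorem indQ_coe (y : P) (hn : ∀ x ∈ P, (y : G3) * x * (y : G3)⁻¹ ∈ P) (e : P ⧸ Subgroup.subgroupOf Zs P) :
    indQ hn e = piZ P y * e * (piZ P y)⁻¹ := by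
  obtain ⟨x, rfl⟩ := QuotientGroup.mk'_surjective _ e
  rw [← map_inv]
  show piZ P _ = piZ P y * piZ P x * piZ P y⁻¹
  rw [← map_mul, ← map_mul]
  rfl

/-- Two lifts differ by a scalar. -/
theorem lift_eq {u v : P} (h : piZ P u = piZ P v) : ∃ z ∈ Zs, (u : G3) = v * z := by
  refine ⟨((v : G3))⁻¹ * u, ?_, by group⟩
  have := (QuotientGroup.eq (s := Subgroup.subgroupOf Zs P)).1 h.symm
  exact this

/-- The lifts of an inverted pair of commuting elements of order three do not commute. -/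
theorem lifts_noncomm (p : ℕ) [Fact p.Prime] [CharP F p] (hP : Core P) (hp3 : p ≠ 3)
    {a b c : P ⧸ (Cfsg.Geo.scalars (Fin 3) F).subgroupOf P}
    (ha : a ^ 3 = 1) (hb : b ^ 3 = 1) (hind : ∀ i j : Fin 3, a ^ (i : ℕ) * b ^ (j : ℕ) = 1 → i = 0 ∧ j = 0)
    (hca : c * a * c⁻¹ = a⁻¹) (hcb : c * b * c⁻¹ = b⁻¹) (x y : P) (hx : piZ P x = a) (hy : piZ P y = b) :
    x * y ≠ y * x := by
  classical
  intro hxy
  haveI := Fintype.ofFinite F
  obtain ⟨γ, hγ⟩ := QuotientGroup.mk'_surjective _ c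
  have h3F : (3 : F) ≠ 0 := fun h => hp3 ((Nat.prime_dvd_prime_iff_eq Fact.out Nat.prime_three).1
    ((CharP.cast_eq_zero_iff F p 3).1 (by exact_mod_cast h)))
  -- inverted lifts
  have fix : ∀ (u : P) (e : P ⧸ Subgroup.subgroupOf Zs P), piZ P u = e → c * e * c⁻¹ = e⁻¹ → e ^ 3 = 1 →
      ∃ z : P, z ∈ Subgroup.subgroupOf Zs P ∧ γ * (u * z) * γ⁻¹ = (u * z)⁻¹ ∧ (u * z) ^ 3 = 1 := by
    intro u e hu hce he
    set z : P := u * (γ * u * γ⁻¹) with hz
    have hzm : z ∈ Subgroup.subgroupOf Zs P := hP.mem_scalar_of_piZ (by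
      rw [hz, map_mul, map_mul, map_mul, map_inv, hu, show piZ P γ = c from hγ, hce, mul_inv_cancel])
    have hz3 := hP.pow_three_of_scalar hzm
    have hcomm : ∀ v : P, Commute z v := fun v => (hP.scalar_comm hzm v).symm
    have hcg : γ * (u * z) * γ⁻¹ = (u * z)⁻¹ := by
      have e1 : γ * u * γ⁻¹ = u⁻¹ * z := by rw [hz]; group
      have e2 : γ * z * γ⁻¹ = z := by rw [← (hcomm γ).eq, mul_inv_cancel_right]
      rw [show γ * (u * z) * γ⁻¹ = (γ * u * γ⁻¹) * (γ * z * γ⁻¹) by group, e1, e2, _root_.mul_inv_rev,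
        ((hcomm u⁻¹).inv_left).eq, mul_assoc]
      congr 1
      exact (inv_eq_of_mul_eq_one_right (by rw [← mul_assoc, ← pow_two, ← pow_succ]; exact hz3)).symm
    refine ⟨z, hzm, hcg, ?_⟩
    have hn : (u * z) ^ 3 ∈ Subgroup.subgroupOf Zs P := hP.mem_scalar_of_piZ (by
      rw [map_pow, map_mul, hu, hP.piZ_scalar hzm, mul_one, he])
    refine hP.eq_one_of_sq hn (mul_eq_one_iff_eq_inv.2 ?_)
    calc (u * z) ^ 3 = γ * (u * z) ^ 3 * γ⁻¹ := by rw [hP.scalar_comm hn γ, mul_inv_cancel_right]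
      _ = ((u * z) ^ 3)⁻¹ := by rw [← conj_pow, hcg, inv_pow]
  obtain ⟨z₁, hz₁, hxi, hx3⟩ := fix x a hx hca ha
  obtain ⟨z₂, hz₂, hyi, hy3⟩ := fix y b hy hcb hb
  set u := x * z₁ with hu
  set v := y * z₂ with hv
  have hpu : piZ P u = a := by rw [hu, map_mul, hx, hP.piZ_scalar hz₁, mul_one]
  have hpv : piZ P v = b := by rw [hv, map_mul, hy, hP.piZ_scalar hz₂, mul_one]
  have huv : Commute u v := by
    have c1 : ∀ w : P, Commute z₁ w := fun w => (hP.scalar_comm hz₁ w).symm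
    have c2 : ∀ w : P, Commute z₂ w := fun w => (hP.scalar_comm hz₂ w).symm
    exact ((Commute.mul_right (show Commute x y from hxy) (c2 x).symm)).mul_left (c1 _)
  let f : Fin 3 × Fin 3 → P := fun k => u ^ (k.1 : ℕ) * v ^ (k.2 : ℕ)
  have hf : Function.Injective f := by
    rintro ⟨i, j⟩ ⟨i', j'⟩ h
    have hq := congrArg (piZ P) h
    simp only [f, map_mul, map_pow, hpu, hpv] at hq
    have hab : Commute a b := by rw [← hpu, ← hpv]; exact huv.map _
    obtain ⟨r, hr⟩ : ∃ r : ℕ, r % 3 = ((i : ℕ) + (3 - (i' : ℕ))) % 3 ∧ r < 3 := ⟨_, Nat.mod_mod _ _, Nat.mod_lt _ (by norm_num)⟩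
    obtain ⟨s, hs⟩ : ∃ s : ℕ, s % 3 = ((j : ℕ) + (3 - (j' : ℕ))) % 3 ∧ s < 3 := ⟨_, Nat.mod_mod _ _, Nat.mod_lt _ (by norm_num)⟩
    have key : a ^ r * b ^ s = 1 := by
      rw [pow_eq_pow_mod r ha, hr.1, ← pow_eq_pow_mod _ ha, pow_eq_pow_mod s hb, hs.1, ← pow_eq_pow_mod _ hb,
        pow_add, pow_add, mul_assoc, ← mul_assoc (a ^ (3 - (i' : ℕ))), ((hab.pow_pow _ _)).eq, ← mul_assoc,
        ← mul_assoc, hq, mul_assoc (a ^ (i' : ℕ)), ((hab.pow_pow _ _).symm).eq, ← mul_assoc, mul_assoc, ← pow_add,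
        ← pow_add]
      have := i'.2
      have := j'.2
      rw [Nat.add_sub_cancel' (by omega), Nat.add_sub_cancel' (by omega), ha, hb, one_mul]
    obtain ⟨h1, h2⟩ := hind ⟨r, hr.2⟩ ⟨s, hs.2⟩ key
    have h1' : r = 0 := congrArg Fin.val h1
    have h2' : s = 0 := congrArg Fin.val h2
    have := i.2; have := i'.2; have := j.2; have := j'.2
    have := hr.1; have := hs.1
    ext <;> simp only <;> omega
  let R : Subgroup P :=
    { carrier := Set.range f
      one_mem' := ⟨(0, 0), by simp [f]⟩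
      mul_mem' := by
        rintro _ _ ⟨⟨i, j⟩, rfl⟩ ⟨⟨i', j'⟩, rfl⟩
        refine ⟨(i + i', j + j'), ?_⟩
        simp only [f, Fin.val_add]
        rw [← pow_eq_pow_mod _ hx3, ← pow_eq_pow_mod _ hy3, pow_add, pow_add, mul_assoc, mul_assoc,
          ← mul_assoc (u ^ (i' : ℕ)), (huv.pow_pow _ _).eq, mul_assoc]
      inv_mem' := by
        rintro _ ⟨⟨i, j⟩, rfl⟩
        refine ⟨(-i, -j), eq_inv_of_mul_eq_one_left ?_⟩
        simp only [f, Fin.val_neg', mul_assoc]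
        rw [← mul_assoc (v ^ _), ((huv.symm).pow_pow _ _).eq, mul_assoc, ← mul_assoc, ← pow_add, ← pow_add,
          pow_eq_pow_mod _ hx3, pow_eq_pow_mod _ hy3]
        have := i.2; have := j.2
        rw [show ((3 - (i : ℕ)) % 3 + i) % 3 = 0 by omega, show ((3 - (j : ℕ)) % 3 + j) % 3 = 0 by omega]
        simp }
  refine scalars_ne_bot_of_nine hP R ?_ ?_ h3F ?_
  · show Nat.card (Set.range f) = 9
    rw [Nat.card_range_of_injective hf]
    simp
  · rintro _ ⟨k, rfl⟩ _ ⟨l, rfl⟩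
    exact (((Commute.pow_pow_self u _ _).mul_right (huv.pow_pow _ _)).mul_left
      ((huv.symm.pow_pow _ _).mul_right (Commute.pow_pow_self v _ _))).eq
  · rintro g ⟨⟨i, j⟩, rfl⟩ hg1
    set g := f (i, j) with hg
    have hg3 : g ^ 3 = 1 := by
      rw [hg]
      simp only [f]
      rw [(huv.pow_pow _ _).mul_pow, ← pow_mul, ← pow_mul, mul_comm (i : ℕ), mul_comm (j : ℕ), pow_mul, pow_mul,
        hx3, hy3, one_pow, one_pow, one_mul]
    have hinv : IsConj g g⁻¹ := isConj_iff.2 ⟨γ, by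
      rw [hg]
      simp only [f]
      rw [show γ * (u ^ (i : ℕ) * v ^ (j : ℕ)) * γ⁻¹ = (γ * u ^ (i : ℕ) * γ⁻¹) * (γ * v ^ (j : ℕ) * γ⁻¹) by group,
        ← conj_pow, ← conj_pow, hxi, hyi, inv_pow, inv_pow,
        ((huv.pow_pow (i : ℕ) (j : ℕ)).inv_inv).eq, ← _root_.mul_inv_rev]⟩
    have hab := tr_inv_of_real hinv
    have hd := hP.det_eq g.2
    have hg3' := coe_pow_eq_one hg3
    have h3' := (order_three hd hg3').1
    rw [hab] at h3'
    rcases mul_eq_zero.1 (show tr (g : G3) * (tr (g : G3) - 3) = 0 by linear_combination h3') with e | e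
    · exact e
    · have e3 := sub_eq_zero.1 e
      exact absurd (Subtype.ext (eq_one_of_tr_three (p := p) hd e3 (hab.trans e3) hg3'
        ((Nat.coprime_primes Fact.out Nat.prime_three).2 hp3))) hg1

/-- A normaliser cannot turn the commutator of two non-commuting lifts into its inverse. -/
theorem no_flip (p : ℕ) [Fact p.Prime] [CharP F p] (hP : Core P) (hp3 : p ≠ 3)
    {a b c : P ⧸ (Cfsg.Geo.scalars (Fin 3) F).subgroupOf P}
    (ha : a ^ 3 = 1) (hb : b ^ 3 = 1) (hind : ∀ i j : Fin 3, a ^ (i : ℕ) * b ^ (j : ℕ) = 1 → i = 0 ∧ j = 0)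
    (hca : c * a * c⁻¹ = a⁻¹) (hcb : c * b * c⁻¹ = b⁻¹) (hab : a * b = b * a) {h : G3} (hn : ∀ x ∈ P, h * x * h⁻¹ ∈ P)
    (hflip : (indQ hn a = a⁻¹ ∧ indQ hn b = b) ∨ (indQ hn a = a ∧ indQ hn b = b⁻¹) ∨
      (indQ hn a = a * b ∧ indQ hn b = a⁻¹ * b)) : False := by
  obtain ⟨x, hx⟩ := QuotientGroup.mk'_surjective _ a
  obtain ⟨y, hy⟩ := QuotientGroup.mk'_surjective _ b
  set z : G3 := ⁅(x : G3), (y : G3)⁆ with hz
  have hzs : z ∈ Zs := by
    have : piZ P ⁅x, y⁆ = 1 := by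
      rw [map_commutatorElement, show piZ P x = a from hx, show piZ P y = b from hy,
        commutatorElement_eq_one_iff_mul_comm.2 hab]
    exact hP.mem_scalar_of_piZ this
  have hz1 : z ≠ 1 := fun e => lifts_noncomm p hP hp3 ha hb hind hca hcb x y hx hy
    (Subtype.ext (commutatorElement_eq_one_iff_mul_comm.1 e))
  have hzc : ∀ w : G3, Commute z w := fun w => scalar_comm_all hzs w
  have hz3 : z ^ 3 = 1 := congrArg Subtype.val (hP.pow_three_of_scalar (z := ⁅x, y⁆) hzs)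
  have himg : ∀ (w : P) (e : P) , indQ hn (piZ P w) = piZ P e → ∃ s ∈ Zs, h * w.1 * h⁻¹ = e.1 * s := fun w e he =>
    lift_eq ((indQ_piZ hn w).symm.trans he)
  have hconj : z = ⁅h * x.1 * h⁻¹, h * y.1 * h⁻¹⁆ := by
    rw [← scalar_conj hzs h, hz, commutatorElement_def, commutatorElement_def]
    group
  have hxy : (x : G3) * y = z * (y * x) := by rw [hz, commutatorElement_def]; group
  have hinv : z = z⁻¹ → False := fun e => hz1 (by
    have hz2 : z * z = 1 := mul_eq_one_iff_eq_inv.2 e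
    calc z = z * (z * z) := by rw [hz2, mul_one]
      _ = z ^ 3 := by rw [pow_succ, pow_two, mul_assoc]
      _ = 1 := hz3)
  rcases hflip with ⟨h1, h2⟩ | ⟨h1, h2⟩ | ⟨h1, h2⟩
  · obtain ⟨s, hs, es⟩ := himg x x⁻¹ (by rw [map_inv, show piZ P x = a from hx]; exact h1)
    obtain ⟨t, ht, et⟩ := himg y y (by rw [show piZ P y = b from hy]; exact h2)
    refine hinv (hconj.trans ?_)
    rw [es, et, commutator_scalar_mul hs ht, InvMemClass.coe_inv, hz, commutatorElement_def, commutatorElement_def]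
    calc (x : G3)⁻¹ * y * (x : G3)⁻¹⁻¹ * (y : G3)⁻¹ = (x : G3)⁻¹ * (y * x * (y : G3)⁻¹ * (x : G3)⁻¹) * x := by group
      _ = (x : G3)⁻¹ * (z⁻¹ * x) := by rw [hz, commutatorElement_def]; group
      _ = z⁻¹ := by rw [((hzc x).inv_left).eq, inv_mul_cancel_left]
      _ = _ := by rw [hz, commutatorElement_def]
  · obtain ⟨s, hs, es⟩ := himg x x (by rw [show piZ P x = a from hx]; exact h1)
    obtain ⟨t, ht, et⟩ := himg y y⁻¹ (by rw [map_inv, show piZ P y = b from hy]; exact h2)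
    refine hinv (hconj.trans ?_)
    rw [es, et, commutator_scalar_mul hs ht, InvMemClass.coe_inv, hz, commutatorElement_def, commutatorElement_def]
    calc (x : G3) * (y : G3)⁻¹ * (x : G3)⁻¹ * (y : G3)⁻¹⁻¹ = (y : G3)⁻¹ * (y * x * (y : G3)⁻¹ * (x : G3)⁻¹) * y := by group
      _ = (y : G3)⁻¹ * (z⁻¹ * y) := by rw [hz, commutatorElement_def]; group
      _ = z⁻¹ := by rw [((hzc y).inv_left).eq, inv_mul_cancel_left]
      _ = _ := by rw [hz, commutatorElement_def]
  · obtain ⟨s, hs, es⟩ := himg x (x * y) (by rw [map_mul, show piZ P x = a from hx, show piZ P y = b from hy]; exact h1)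
    obtain ⟨t, ht, et⟩ := himg y (x⁻¹ * y) (by
      rw [map_mul, map_inv, show piZ P x = a from hx, show piZ P y = b from hy]; exact h2)
    have e2 : z = z * z := by
      refine hconj.trans ?_
      rw [es, et, commutator_scalar_mul hs ht, Subgroup.coe_mul, Subgroup.coe_mul, InvMemClass.coe_inv]
      calc ⁅(x : G3) * y, (x : G3)⁻¹ * y⁆
          = (x : G3) * y * (x : G3)⁻¹ * (y * (y : G3)⁻¹) * (x : G3)⁻¹ * (y : G3)⁻¹ * x := by
            rw [commutatorElement_def]; group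
        _ = (z * y * x * (x : G3)⁻¹) * ((x : G3)⁻¹ * (y : G3)⁻¹ * x) := by
            rw [hxy]; group
        _ = z * ((y : G3) * (x : G3)⁻¹ * (y : G3)⁻¹ * x) := by group
        _ = z * z := by
            congr 1
            rw [hz, commutatorElement_def]
            calc (y : G3) * (x : G3)⁻¹ * (y : G3)⁻¹ * x
                = (x : G3)⁻¹ * ((x : G3) * y * (x : G3)⁻¹ * (y : G3)⁻¹) * x := by group
              _ = (x : G3)⁻¹ * (z * x) := by rw [hz, commutatorElement_def]; group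
              _ = z := by rw [(hzc x).eq, inv_mul_cancel_left]
              _ = _ := by rw [hz, commutatorElement_def]
    exact hz1 (mul_left_cancel (a := z) (by rw [mul_one]; exact e2.symm))

end CfsgLib.ResThree
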